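import Mathlib
import Cfsg.Agent.FG78.PiBound
import Cfsg.Agent.Lib.CharCore.Linear
import Cfsg.Agent.Lib.CharCore.Complete
import Cfsg.Agent.Lib.BlocksCore.DefectZero

set_option autoImplicit false

/-!
Groups with many classes of `π`-elements: basic counting tools.
-/

namespace Cfsg.Agent.PiMany

open FG78

universe u

/-- The `s`-part of a number. -/
def pm (s : Finset ℕ) (n : ℕ) : ℕ := ∏ q ∈ s, q ^ n.factorization q

theorem pm_pos {s : Finset ℕ} (hs : ∀ q ∈ s, q.Prime) (n : ℕ) : 0 < pm s n :=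
  Finset.prod_pos fun q hq => pow_pos (hs q hq).pos _

theorem pm_insert {s : Finset ℕ} {q : ℕ} (h : q ∉ s) (n : ℕ) :
    pm (insert q s) n = q ^ n.factorization q * pm s n :=
  Finset.prod_insert h

theorem prime_dvd_pm {s : Finset ℕ} (hs : ∀ q ∈ s, q.Prime) {n r : ℕ} (hr : r.Prime)
    (h : r ∣ pm s n) : r ∈ s := by
  obtain ⟨q, hq, hd⟩ := hr.prime.exists_mem_finset_dvd h
  exact (Nat.prime_dvd_prime_iff_eq hr (hs q hq)).mp (hr.dvd_of_dvd_pow hd) ▸ hq

theorem pm_dvd_of_dvd {s : Finset ℕ} {m n : ℕ} (hn : n ≠ 0) (h : m ∣ n) : pm s m ∣ pm s n :=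
  Finset.prod_dvd_prod_of_dvd _ _ fun q _ => pow_dvd_pow q
    ((Nat.factorization_le_iff_dvd (fun e => hn (by simpa [e] using h)) hn).mpr h q)

theorem pow_dvd_pm {s : Finset ℕ} {q : ℕ} (hq : q ∈ s) (n : ℕ) :
    q ^ n.factorization q ∣ pm s n :=
  Finset.dvd_prod_of_mem (fun r => r ^ n.factorization r) hq

theorem pm_dvd (s : Finset ℕ) (hs : ∀ q ∈ s, q.Prime) (n : ℕ) : pm s n ∣ n := by
  induction s using Finset.induction_on with
  | empty => simp [pm]
  | insert q s hq ih =>
    rw [pm_insert hq]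
    refine Nat.Coprime.mul_dvd_of_dvd_of_dvd ?_ (Nat.ordProj_dvd n q)
      (ih fun r hr => hs r (Finset.mem_insert_of_mem hr))
    refine Nat.Coprime.pow_left _ ((hs q (Finset.mem_insert_self q s)).coprime_iff_not_dvd.mpr ?_)
    exact fun h => hq (prime_dvd_pm (fun r hr => hs r (Finset.mem_insert_of_mem hr))
      (hs q (Finset.mem_insert_self q s)) h)

section Classes

variable {G : Type u} [Group G]

/-- the class of `g` as a class of `π`-elements -/
def piMk (π : Set ℕ) (g : G) (hg : IsPiElem π g) : PiClasses π G :=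
  ⟨ConjClasses.mk g, (isPiElem_conjClass_iff π g).mpr hg⟩

theorem exists_piMk {π : Set ℕ} (C : PiClasses π G) : ∃ g, ∃ hg, piMk π g hg = C := by
  obtain ⟨g, hg⟩ := C.1.exists_rep
  exact ⟨g, (isPiElem_conjClass_iff π g).mp (hg.symm ▸ C.2), Subtype.ext hg⟩

theorem piPart_conj [Finite G] (π : Set ℕ) (c g : G) :
    piPart π (c * g * c⁻¹) = c * piPart π g * c⁻¹ := by
  obtain ⟨i, hi⟩ := exists_piPart_eq_pow π g
  obtain ⟨j, hj⟩ := exists_piPart'_eq_pow π g
  refine (piPart_unique (a := c * piPart π g * c⁻¹) (b := c * piPart' π g * c⁻¹) ?_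
    ((isPiElem_conj_iff c _).mpr (isPiElem_piPart π g))
    ((isPiElem_conj_iff c _).mpr (isPiElem_piPart' π g)) ?_).1
  · exact (commute_piPart_piPart' π g).map (MulAut.conj c).toMonoidHom
  · rw [conj_mul, piPart_mul_piPart']

/-- the class of the `α`-part -/
noncomputable def partClass [Finite G] {π : Set ℕ} (α : Set ℕ) (C : PiClasses π G) :
    PiClasses α G :=
  piMk α (piPart α (exists_piMk C).choose) (isPiElem_piPart _ _)

theorem partClass_piMk [Finite G] {π : Set ℕ} (α : Set ℕ) (g : G) (hg : IsPiElem π g) :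
    partClass α (piMk π g hg) = piMk α (piPart α g) (isPiElem_piPart _ _) := by
  obtain ⟨hg', e⟩ := (exists_piMk (piMk π g hg)).choose_spec
  have := congrArg Subtype.val e
  obtain ⟨c, hc⟩ := isConj_iff.mp (ConjClasses.mk_eq_mk_iff_isConj.mp this)
  refine Subtype.ext (ConjClasses.mk_eq_mk_iff_isConj.mpr (isConj_iff.mpr ⟨c, ?_⟩))
  rw [← piPart_conj, hc]

theorem exists_rep_of_partClass [Finite G] {π α : Set ℕ} (C : PiClasses π G) {x : G}
    (hx : IsPiElem α x) (h : partClass α C = piMk α x hx) :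
    ∃ b : G, Commute x b ∧ IsPiElem (π \ α) b ∧ ∃ hg, piMk π (x * b) hg = C := by
  obtain ⟨g, hg, rfl⟩ := exists_piMk C
  rw [partClass_piMk] at h
  obtain ⟨c, hc⟩ := isConj_iff.mp (ConjClasses.mk_eq_mk_iff_isConj.mp (congrArg Subtype.val h))
  refine ⟨c * piPart' α g * c⁻¹, ?_, ?_, ?_⟩
  · rw [← hc]; exact (commute_piPart_piPart' α g).map (MulAut.conj c).toMonoidHom
  · intro q hq hd
    have h1 := ((isPiElem_conj_iff c _).mpr (isPiElem_piPart' α g)) q hq hd
    obtain ⟨j, hj⟩ := exists_piPart'_eq_pow α g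
    refine ⟨((isPiElem_conj_iff c _).mpr ?_) q hq hd, h1⟩
    rw [hj]; exact hg.pow j
  · have e : x * (c * piPart' α g * c⁻¹) = c * g * c⁻¹ := by
      rw [← hc, conj_mul, piPart_mul_piPart']
    refine ⟨e ▸ (isPiElem_conj_iff c g).mpr hg, Subtype.ext ?_⟩
    show ConjClasses.mk _ = ConjClasses.mk g
    rw [e]
    exact ConjClasses.mk_eq_mk_iff_isConj.mpr (isConj_iff.mpr ⟨c, rfl⟩).symm

/-- The classes with prescribed `α`-part class inject into the classes of the centralizer. -/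
theorem card_fibre_le [Finite G] {π α : Set ℕ} {x : G} (hx : IsPiElem α x) :
    Nat.card {C : PiClasses π G // partClass α C = piMk α x hx} ≤
      Nat.card (PiClasses (π \ α) ↥(Subgroup.centralizer ({x} : Set G))) := by
  choose b hb1 hb2 hb3 hb4 using fun C : {C : PiClasses π G // partClass α C = piMk α x hx} =>
    exists_rep_of_partClass C.1 hx C.2
  refine Nat.card_le_card_of_injective (fun C => piMk (π \ α)
    (⟨b C, Subgroup.mem_centralizer_singleton_iff.mpr (hb1 C).eq.symm⟩ :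
      Subgroup.centralizer ({x} : Set G))
    ((hb2 C).of_dvd (dvd_of_eq (Subgroup.orderOf_mk _ _)))) fun C D h => Subtype.ext ?_
  obtain ⟨c, hc⟩ := isConj_iff.mp (ConjClasses.mk_eq_mk_iff_isConj.mp (congrArg Subtype.val h))
  have hc' : (c : G) * b C * (c : G)⁻¹ = b D := congrArg Subtype.val hc
  rw [← hb4 C, ← hb4 D]
  refine Subtype.ext (ConjClasses.mk_eq_mk_iff_isConj.mpr (isConj_iff.mpr ⟨(c : G), ?_⟩))
  rw [← conj_mul, hc', Subgroup.mem_centralizer_singleton_iff.mp c.2, mul_inv_cancel_right]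

theorem card_piClasses_congr {π π' : Set ℕ} (h : π = π') :
    Nat.card (PiClasses π G) = Nat.card (PiClasses π' G) := by subst h; rfl

/-- `k_{α ∪ β}(G) ≤ k_α(G) |G|_β`. -/
theorem card_union_le [Finite G] (a b : Finset ℕ) (hb : ∀ q ∈ b, q.Prime) {π : Set ℕ}
    (hπ : π \ ↑a ⊆ ↑b) :
    Nat.card (PiClasses π G) ≤ Nat.card (PiClasses (↑a : Set ℕ) G) * pm b (Nat.card G) := by
  classical
  haveI : Fintype (PiClasses (↑a : Set ℕ) G) := Fintype.ofFinite _
  rw [Nat.card_congr (Equiv.sigmaFiberEquiv (partClass (π := π) (↑a : Set ℕ))).symm,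
    Nat.card_sigma, Nat.card_eq_fintype_card (α := PiClasses (↑a : Set ℕ) G)]
  refine (Finset.sum_le_card_nsmul _ _ (pm b (Nat.card G)) fun D _ => ?_).trans ?_
  · obtain ⟨x, hx, rfl⟩ := exists_piMk D
    refine (card_fibre_le hx).trans (le_trans ?_ (Nat.le_of_dvd (pm_pos hb _)
      (pm_dvd_of_dvd Nat.card_pos.ne'
        (Subgroup.card_subgroup_dvd_card (Subgroup.centralizer ({x} : Set G))))))
    refine le_trans (Nat.card_le_card_of_injective
      (fun C => (⟨C.1, fun q hq hg => hπ (C.2 q hq hg)⟩ : PiClasses (↑b : Set ℕ) _))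
      fun C D h => Subtype.ext (congrArg Subtype.val h :)) ?_
    exact card_piClasses_finset_le b hb _
  · rw [smul_eq_mul, Finset.card_univ]

theorem isPiElem_singleton_of_pGroup {p : ℕ} [Fact p.Prime] {P : Subgroup G} (hP : IsPGroup p P)
    {x : G} (hx : x ∈ P) : IsPiElem {p} x := by
  intro q hq hd
  obtain ⟨k, hk⟩ := hP ⟨x, hx⟩
  have : x ^ p ^ k = 1 := congrArg Subtype.val hk
  exact (Nat.prime_dvd_prime_iff_eq hq Fact.out).mp
    (hq.dvd_of_dvd_pow (hd.trans (orderOf_dvd_of_pow_eq_one this)))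

theorem isPGroup_zpowers_of_isPiElem [Finite G] {p : ℕ} {x : G}
    (hx : IsPiElem {p} x) : IsPGroup p (Subgroup.zpowers x) := by
  refine IsPGroup.of_card (n := (orderOf x).primeFactorsList.length) ?_
  rw [Nat.card_zpowers]
  exact Nat.eq_prime_pow_of_unique_prime_dvd (orderOf_pos x).ne' fun {d} hd hdd => hx d hd hdd

theorem exists_conj_mem_sylow [Finite G] {p : ℕ} [Fact p.Prime] {x : G} (hx : IsPiElem {p} x)
    (P : Sylow p G) : ∃ c : G, c * x * c⁻¹ ∈ (P : Subgroup G) := by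
  obtain ⟨Q, hQ⟩ := (isPGroup_zpowers_of_isPiElem hx).exists_le_sylow
  obtain ⟨c, hc⟩ := MulAction.exists_smul_eq G Q P
  refine ⟨c, ?_⟩
  rw [← hc, Sylow.coe_subgroup_smul]
  exact Subgroup.smul_mem_pointwise_smul _ (MulAut.conj c) _ (hQ (Subgroup.mem_zpowers _))

theorem card_piClasses_le_sylow [Finite G] {p : ℕ} [Fact p.Prime] (P : Sylow p G) :
    Nat.card (PiClasses ({p} : Set ℕ) G) ≤ Nat.card (ConjClasses ↥(P : Subgroup G)) := by
  have h : ∀ C : PiClasses ({p} : Set ℕ) G, ∃ z : ↥(P : Subgroup G), ConjClasses.mk (z : G) = C.1 :=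
    by
    intro C
    obtain ⟨x, hx, rfl⟩ := exists_piMk C
    obtain ⟨c, hc⟩ := exists_conj_mem_sylow hx P
    exact ⟨⟨_, hc⟩, ConjClasses.mk_eq_mk_iff_isConj.mpr (isConj_iff.mpr ⟨c, rfl⟩).symm⟩
  choose z hz using h
  refine Nat.card_le_card_of_injective (fun C => ConjClasses.mk (z C)) fun C D e => Subtype.ext ?_
  rw [← hz C, ← hz D]
  exact ConjClasses.mk_eq_mk_iff_isConj.mpr
    (MonoidHom.map_isConj (P : Subgroup G).subtype (ConjClasses.mk_eq_mk_iff_isConj.mp e))

end Classes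

/-- A class number bound for `p`-groups from the sum of the squares of the degrees. -/
theorem card_conjClasses_pGroup_le {P : Type u} [Group P] [Finite P] {p : ℕ} [hp : Fact p.Prime]
    (hP : IsPGroup p P) :
    Nat.card (ConjClasses P) * p ^ 2 ≤ Nat.card P + (p ^ 2 - 1) * (commutator P).index := by
  classical
  haveI := Fintype.ofFinite P
  rw [← CharCore.card_irr, ← CharCore.card_linearCharacters (G := P)]
  have hsum : Nat.card P = ∑ χ : Cfsg.IrrCharacter P, Cfsg.charDegree (χ : P → ℂ) ^ 2 := by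
    have h := CharCore.sum_degree_sq (G := P)
    simp only [BlocksCore.irr_one_eq] at h
    exact_mod_cast h.symm
  have h1 : Nat.card (Cfsg.IrrCharacter P) * p ^ 2 = ∑ _χ : Cfsg.IrrCharacter P, p ^ 2 := by
    rw [Finset.sum_const, smul_eq_mul, Finset.card_univ, Nat.card_eq_fintype_card]
  have h2 : (p ^ 2 - 1) * Nat.card {χ : Cfsg.IrrCharacter P // (χ : P → ℂ) 1 = 1} =
      ∑ χ : Cfsg.IrrCharacter P, if (χ : P → ℂ) 1 = 1 then p ^ 2 - 1 else 0 := by
    rw [← Finset.sum_filter, Finset.sum_const, smul_eq_mul, ← Fintype.card_subtype,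
      ← Nat.card_eq_fintype_card, mul_comm]
  rw [h1, h2, hsum, ← Finset.sum_add_distrib]
  refine Finset.sum_le_sum fun χ _ => ?_
  obtain ⟨n, hn⟩ := IsPGroup.iff_card.mp hP
  have hd := BlocksCore.charDegree_dvd_card χ
  rw [hn] at hd
  obtain ⟨i, -, hi⟩ := (Nat.dvd_prime_pow hp.out).mp hd
  rcases Nat.eq_zero_or_pos i with rfl | hpos
  · rw [if_pos (by rw [BlocksCore.irr_one_eq, hi]; simp), hi]
    have := Nat.one_le_pow 2 p hp.out.pos
    simp only [pow_zero, one_pow]
    omega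
  · rw [hi]
    refine le_trans ?_ (Nat.le_add_right _ _)
    rw [← pow_mul]
    exact Nat.pow_le_pow_right hp.out.pos (by omega)

theorem card_conjClasses_le_of_not_comm {P : Type u} [Group P] [Finite P] {p : ℕ}
    [hp : Fact p.Prime] (hP : IsPGroup p P) (hne : commutator P ≠ ⊥) :
    p ^ 3 * Nat.card (ConjClasses P) ≤ Nat.card P * (p ^ 2 + p - 1) := by
  have h := card_conjClasses_pGroup_le hP
  have hd : p ∣ Nat.card (commutator P) := by
    haveI := (Subgroup.nontrivial_iff_ne_bot _).mpr hne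
    exact (hP.to_subgroup _).card_eq_or_dvd.resolve_left Finite.one_lt_card.ne'
  have hi : p * (commutator P).index ≤ Nat.card P := by
    rw [← (commutator P).card_mul_index]
    exact Nat.mul_le_mul_right _ (Nat.le_of_dvd Nat.card_pos hd)
  obtain ⟨m, hm⟩ : ∃ m, p ^ 2 = m + 1 := ⟨p ^ 2 - 1, by
    have := Nat.one_le_pow 2 p hp.out.pos; omega⟩
  have h1 : p ^ 2 + p - 1 = m + p := by omega
  rw [show p ^ 2 - 1 = m by omega] at h
  rw [h1]
  calc p ^ 3 * Nat.card (ConjClasses P) = p * (Nat.card (ConjClasses P) * p ^ 2) := by ring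
    _ ≤ p * (Nat.card P + m * (commutator P).index) := Nat.mul_le_mul_left p h
    _ = p * Nat.card P + m * (p * (commutator P).index) := by ring
    _ ≤ p * Nat.card P + m * Nat.card P := Nat.add_le_add_left (Nat.mul_le_mul_left _ hi) _
    _ = Nat.card P * (m + p) := by ring

theorem card_conjClasses_le_of_commutator_large {P : Type u} [Group P] [Finite P] {p : ℕ}
    [hp : Fact p.Prime] (hP : IsPGroup p P) (hlarge : p < Nat.card (commutator P)) :
    p * Nat.card (ConjClasses P) ≤ Nat.card P := by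
  have h := card_conjClasses_pGroup_le hP
  have hi : p ^ 2 * (commutator P).index ≤ Nat.card P := by
    rw [← (commutator P).card_mul_index]
    refine Nat.mul_le_mul_right _ ?_
    obtain ⟨n, hn⟩ := IsPGroup.iff_card.mp (hP.to_subgroup (commutator P))
    rw [hn] at hlarge ⊢
    refine Nat.pow_le_pow_right hp.out.pos ?_
    exact (Nat.pow_lt_pow_iff_right hp.out.one_lt).mp (by rwa [pow_one])
  refine Nat.le_of_mul_le_mul_left ?_ (pow_pos hp.out.pos 3)
  calc p ^ 3 * (p * Nat.card (ConjClasses P))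
      = p ^ 2 * (Nat.card (ConjClasses P) * p ^ 2) := by ring
    _ ≤ p ^ 2 * (Nat.card P + p ^ 2 * (commutator P).index) :=
        Nat.mul_le_mul_left _ (h.trans (Nat.add_le_add_left
          (Nat.mul_le_mul_right _ (Nat.sub_le _ _)) _))
    _ = p ^ 2 * Nat.card P + p ^ 2 * (p ^ 2 * (commutator P).index) := by ring
    _ ≤ p ^ 2 * Nat.card P + p ^ 2 * Nat.card P :=
        Nat.add_le_add_left (Nat.mul_le_mul_left _ hi) _
    _ = 2 * (p ^ 2 * Nat.card P) := by ring
    _ ≤ p * (p ^ 2 * Nat.card P) := Nat.mul_le_mul_right _ hp.out.two_le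
    _ = p ^ 3 * Nat.card P := by ring

/-- An abelian Sylow subgroup is forced by many classes of `q`-elements. -/
theorem isMulCommutative_sylow {G : Type u} [Group G] [Finite G] {p q : ℕ} [hq : Fact q.Prime]
    (hpq : p < q) (Q : Sylow q G)
    (h : q ^ (Nat.card G).factorization q < p * Nat.card (PiClasses ({q} : Set ℕ) G)) :
    IsMulCommutative (Q : Subgroup G) := by
  by_contra hne
  have hne' : commutator ↥(Q : Subgroup G) ≠ ⊥ := by
    intro e
    refine hne ⟨⟨fun a b => ?_⟩⟩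
    rw [commutator_def] at e
    have := Subgroup.commutator_eq_bot_iff_le_centralizer.mp e (Subgroup.mem_top a)
    exact (Subgroup.mem_centralizer_iff.mp this b (Subgroup.mem_top b)).symm
  have h1 := card_conjClasses_le_of_not_comm Q.isPGroup' hne'
  rw [← Q.card_eq_multiplicity] at h
  have h2 := Nat.mul_le_mul_left p (card_piClasses_le_sylow Q)
  have hqq := hq.out.two_le
  have h3 : (q - 1) * (q ^ 2 + q - 1) ≤ q ^ 3 := by
    calc (q - 1) * (q ^ 2 + q - 1) ≤ (q - 1) * (q ^ 2 + q) :=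
          Nat.mul_le_mul_left _ (Nat.sub_le _ _)
      _ ≤ q ^ 3 := by
        obtain ⟨r, rfl⟩ : ∃ r, q = r + 1 := ⟨q - 1, by omega⟩
        simp only [Nat.add_sub_cancel]; nlinarith
  have h4 := h.trans_le h2
  have h5 : q ^ 3 * Nat.card (Q : Subgroup G) <
      q ^ 3 * Nat.card (Q : Subgroup G) := by
    calc q ^ 3 * Nat.card (Q : Subgroup G)
        < q ^ 3 * (p * Nat.card (ConjClasses ↥(Q : Subgroup G))) :=
          Nat.mul_lt_mul_of_pos_left h4 (pow_pos hq.out.pos _)
      _ = p * (q ^ 3 * Nat.card (ConjClasses ↥(Q : Subgroup G))) := by ring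
      _ ≤ (q - 1) * (Nat.card (Q : Subgroup G) * (q ^ 2 + q - 1)) :=
          Nat.mul_le_mul (by omega) h1
      _ = (q - 1) * (q ^ 2 + q - 1) * Nat.card (Q : Subgroup G) := by ring
      _ ≤ q ^ 3 * Nat.card (Q : Subgroup G) := Nat.mul_le_mul_right _ h3
  exact absurd h5 (lt_irrefl _)

end Cfsg.Agent.PiMany
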