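import Cfsg.Agent.PiMany.Main

set_option autoImplicit false

/-!
Translation to the `π`-part formulation.
-/

namespace Cfsg.Agent.PiMany

open scoped commutatorElement

open FG78

universe u

variable {G : Type u} [Group G] [Finite G]

theorem many_classes_data (π : Set ℕ) (hπ : ∀ q ∈ π, q.Prime) (p : ℕ) (hp : p ∈ π)
    (hmin : ∀ q ∈ π, p ≤ q) (m : ℕ) (hm : m ∣ Nat.card G)
    (hmπ : ∀ q : ℕ, q.Prime → q ∣ m → q ∈ π) (hm' : ∀ q ∈ π, ¬ q ∣ Nat.card G / m)
    (k : ℕ) (hk : k = Nat.card (PiClasses π G)) (hmany : m < p * k) :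
    ∃ (s : Finset ℕ) (P : Sylow p G) (W : Subgroup G), (∀ a ∈ W, ∀ b ∈ W, a * b = b * a) ∧
      W ≤ Subgroup.centralizer ((P : Subgroup G) : Set G) ∧
      (Nat.card W).Coprime (Nat.card (P : Subgroup G)) ∧
      Nat.card (P : Subgroup G) * Nat.card W = m ∧
      k ≤ Nat.card (ConjClasses ↥(P : Subgroup G)) * Nat.card W ∧
      Nat.card W = pm s (Nat.card G) := by
  classical
  haveI : Fact p.Prime := ⟨hπ p hp⟩
  let s : Finset ℕ := ((Nat.card G).primeFactors.filter (· ∈ π)).erase p
  have hps : p ∉ s := Finset.notMem_erase p _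
  have hs : ∀ q ∈ s, q.Prime ∧ p < q := fun q hq => by
    obtain ⟨hne, hq'⟩ := Finset.mem_erase.mp hq
    obtain ⟨hq1, hq2⟩ := Finset.mem_filter.mp hq'
    exact ⟨hπ q hq2, lt_of_le_of_ne (hmin q hq2) hne.symm⟩
  have hmem : ∀ q, q.Prime → q ∣ Nat.card G → (q ∈ π ↔ q ∈ insert p s) := fun q hq hd => by
    refine ⟨fun h => ?_, fun h => ?_⟩
    · rcases eq_or_ne q p with rfl | hne
      · exact Finset.mem_insert_self _ _
      · exact Finset.mem_insert_of_mem (Finset.mem_erase.mpr ⟨hne, Finset.mem_filter.mpr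
          ⟨Nat.mem_primeFactors.mpr ⟨hq, hd, Nat.card_pos.ne'⟩, h⟩⟩)
    · rcases Finset.mem_insert.mp h with rfl | h
      · exact hp
      · exact (Finset.mem_filter.mp (Finset.mem_of_mem_erase h)).2
  have hcard : Nat.card (PiClasses π G) = Nat.card (PiClasses (↑(insert p s) : Set ℕ) G) := by
    refine Nat.card_congr (Equiv.subtypeEquivRight fun C => ⟨fun h q hq hg => ?_, fun h q hq hg => ?_⟩)
    · obtain ⟨g, hg1, hg2⟩ := hg
      exact (hmem q hq (hg2.trans (orderOf_dvd_natCard g))).mp (h q hq ⟨g, hg1, hg2⟩)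
    · obtain ⟨g, hg1, hg2⟩ := hg
      exact (hmem q hq (hg2.trans (orderOf_dvd_natCard g))).mpr (h q hq ⟨g, hg1, hg2⟩)
  have hins : ∀ q ∈ insert p s, q.Prime := fun q hq => by
    rcases Finset.mem_insert.mp hq with rfl | h
    exacts [hπ q hp, (hs q h).1]
  have hmpm : m = pm (insert p s) (Nat.card G) := by
    have hm0 : m ≠ 0 := fun e => Nat.card_pos.ne' (Nat.eq_zero_of_zero_dvd (e ▸ hm))
    have hd0 : Nat.card G / m ≠ 0 := fun e =>
      Nat.card_pos.ne' ((Nat.mul_div_cancel' hm).symm.trans (by rw [e, mul_zero]))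
    have hfm : ∀ q ∈ insert p s, m.factorization q = (Nat.card G).factorization q := fun q hq => by
      have hqπ : q ∈ π := by
        rcases Finset.mem_insert.mp hq with rfl | h
        exacts [hp, (Finset.mem_filter.mp (Finset.mem_of_mem_erase h)).2]
      have e := congrArg (fun z : ℕ => z.factorization q) (Nat.mul_div_cancel' hm)
      simp only [Nat.factorization_mul hm0 hd0, Finsupp.add_apply,
        Nat.factorization_eq_zero_of_not_dvd (hm' q hqπ), add_zero] at e
      exact e
    refine Nat.dvd_antisymm ?_ ?_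
    · rw [← Nat.factorization_le_iff_dvd hm0 (pm_pos hins _).ne']
      intro r
      rcases eq_or_ne (m.factorization r) 0 with h0 | h0
      · rw [h0]; exact Nat.zero_le _
      have hr : r.Prime := Nat.prime_of_mem_primeFactors
        (by rw [← Nat.support_factorization, Finsupp.mem_support_iff]; exact h0)
      have hrm : r ∣ m := Nat.dvd_of_factorization_pos h0
      have hri := (hmem r hr (hrm.trans hm)).mp (hmπ r hr hrm)
      rw [hfm r hri]
      exact (Nat.Prime.pow_dvd_iff_le_factorization hr (pm_pos hins _).ne').mp (pow_dvd_pm hri _)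
    · have : pm (insert p s) (Nat.card G) = pm (insert p s) m :=
        Finset.prod_congr rfl fun q hq => by rw [hfm q hq]
      rw [this]; exact pm_dvd _ hins _
  rw [hk, hcard, hmpm] at hmany
  obtain ⟨P, W, hW, hWcard, hWP⟩ := main s.card s rfl p (hπ p hp) hs G hmany
  refine ⟨s, P, W, hW, hWP, ?_, ?_, ?_, hWcard⟩
  · rw [hWcard, P.card_eq_multiplicity]
    refine Nat.Coprime.pow_right _ (Nat.Coprime.symm ?_)
    exact (hπ p hp).coprime_iff_not_dvd.mpr fun h =>
      hps (prime_dvd_pm (fun q hq => (hs q hq).1) (hπ p hp) h)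
  · rw [hmpm, pm_insert hps, hWcard, P.card_eq_multiplicity]
  · rw [hk, hcard]
    refine (card_union_le {p} s (fun q hq => (hs q hq).1) ?_).trans ?_
    · intro q hq
      simp only [Finset.coe_insert, Finset.coe_singleton, Set.mem_diff, Set.mem_insert_iff,
        Set.mem_singleton_iff, Finset.mem_coe] at hq
      exact hq.1.resolve_left hq.2
    · rw [hWcard]
      refine Nat.mul_le_mul_right _ ?_
      rw [Finset.coe_singleton]
      exact card_piClasses_le_sylow P

theorem isNilpotent_sup {P W : Subgroup G} (hP : Group.IsNilpotent P)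
    (hW : ∀ a ∈ W, ∀ b ∈ W, a * b = b * a) (hWP : W ≤ Subgroup.centralizer (P : Set G)) :
    Group.IsNilpotent ↥(P ⊔ W) := by
  letI : CommGroup ↥W :=
    { (inferInstance : Group ↥W) with mul_comm := fun a b => Subtype.ext (hW a a.2 b b.2) }
  have comm : ∀ (a : P) (b : W), Commute (P.subtype a) (W.subtype b) := fun a b =>
    (Subgroup.mem_centralizer_iff.mp (hWP b.2) a a.2)
  have hrange : (MonoidHom.noncommCoprod P.subtype W.subtype comm).range = P ⊔ W := by
    rw [MonoidHom.noncommCoprod_range, Subgroup.range_subtype, Subgroup.range_subtype]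
  rw [← hrange]
  exact Group.nilpotent_of_surjective _ (MonoidHom.rangeRestrict_surjective _)

theorem card_commutator_sup_le {P W : Subgroup G} (hW : ∀ a ∈ W, ∀ b ∈ W, a * b = b * a)
    (hWP : W ≤ Subgroup.centralizer (P : Set G)) :
    Nat.card (commutator ↥(P ⊔ W)) ≤ Nat.card (commutator ↥P) := by
  have comm : ∀ (a : P) (b : W), Commute (P.subtype a) (W.subtype b) := fun a b =>
    (Subgroup.mem_centralizer_iff.mp (hWP b.2) a a.2)
  have hrange : (MonoidHom.noncommCoprod P.subtype W.subtype comm).range = P ⊔ W := by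
    rw [MonoidHom.noncommCoprod_range, Subgroup.range_subtype, Subgroup.range_subtype]
  rw [← Subgroup.card_map_of_injective (K := commutator ↥(P ⊔ W)) (P ⊔ W).subtype_injective,
    ← Subgroup.card_map_of_injective (K := commutator ↥P) P.subtype_injective,
    Subgroup.map_subtype_commutator, Subgroup.map_subtype_commutator]
  refine Nat.le_of_dvd Nat.card_pos (Subgroup.card_dvd_of_le (Subgroup.commutator_le.mpr ?_))
  intro a ha b hb
  rw [← hrange] at ha hb
  obtain ⟨⟨x, w⟩, rfl⟩ := ha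
  obtain ⟨⟨x', w'⟩, rfl⟩ := hb
  have h1 : ⁅(x : G) * (w : G), (x' : G) * (w' : G)⁆ = ⁅(x : G), (x' : G)⁆ := by
    have c1 : Commute (x : G) (w' : G) := comm x w'
    have c2 : Commute (x' : G) (w : G) := comm x' w
    have c3 : Commute (w : G) (w' : G) := hW _ w.2 _ w'.2
    have c4 : Commute (x : G) (w : G) := comm x w
    have c5 : Commute (x' : G) (w' : G) := comm x' w'
    calc ⁅(x : G) * (w : G), (x' : G) * (w' : G)⁆
        = (x : G) * ((w : G) * (x' : G)) * ((w' : G) * (w : G)⁻¹) * (x : G)⁻¹ * ((x' : G) * (w' : G))⁻¹ := by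
          simp [commutatorElement_def, mul_assoc]
      _ = (x : G) * ((x' : G) * (w : G)) * ((w : G)⁻¹ * (w' : G)) * (x : G)⁻¹ * ((x' : G) * (w' : G))⁻¹ := by
          rw [c2.symm.eq, c3.symm.inv_right.eq]
      _ = (x : G) * (x' : G) * ((w' : G) * (x : G)⁻¹) * ((w' : G)⁻¹ * (x' : G)⁻¹) := by
          simp [mul_assoc]
      _ = (x : G) * (x' : G) * ((x : G)⁻¹ * (w' : G)) * ((w' : G)⁻¹ * (x' : G)⁻¹) := by
          rw [c1.inv_left.symm.eq]
      _ = ⁅(x : G), (x' : G)⁆ := by simp [commutatorElement_def, mul_assoc]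
  show ⁅(x : G) * (w : G), (x' : G) * (w' : G)⁆ ∈ ⁅P, P⁆
  rw [h1]
  exact Subgroup.commutator_mem_commutator x.2 x'.2

end Cfsg.Agent.PiMany
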