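import Cfsg.Agent.PiMany.Basic

set_option autoImplicit false

/-!
Abelian Hall subgroups: conjugacy, joins, and related tools.
-/

namespace Cfsg.Agent.PiMany

open FG78

universe u

variable {G : Type u} [Group G]

/-- The `π`-elements of an abelian subgroup. -/
def piSub [Finite G] (A : Subgroup G) (hA : ∀ a ∈ A, ∀ b ∈ A, a * b = b * a) (π : Set ℕ) :
    Subgroup G where
  carrier := {a | a ∈ A ∧ IsPiElem π a}
  one_mem' := ⟨A.one_mem, IsPiElem.one π⟩
  mul_mem' := fun {a b} ha hb => ⟨A.mul_mem ha.1 hb.1, ha.2.mul hb.2 (hA a ha.1 b hb.1)⟩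
  inv_mem' := fun {_} ha => ⟨A.inv_mem ha.1, ha.2.inv⟩

theorem exists_conj_subgroup_le_sylow [Finite G] {q : ℕ} [Fact q.Prime] {A Q : Subgroup G}
    (hA : IsPGroup q A) (hQ : Nat.card Q = q ^ (Nat.card G).factorization q) :
    ∃ g : G, ∀ a ∈ A, g * a * g⁻¹ ∈ Q := by
  obtain ⟨S, hS⟩ := hA.exists_le_sylow
  obtain ⟨c, hc⟩ := MulAction.exists_smul_eq G S (Sylow.ofCard Q hQ)
  refine ⟨c, fun a ha => ?_⟩
  have h : ((c • S : Sylow q G) : Subgroup G) = Q := by rw [hc]; rfl
  rw [← h, Sylow.coe_subgroup_smul]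
  exact Subgroup.smul_mem_pointwise_smul _ (MulAut.conj c) _ (hS ha)

theorem exists_conj_mem_of_abelianHall [Finite G] (W : Subgroup G)
    (hW : ∀ a ∈ W, ∀ b ∈ W, a * b = b * a) (s : Finset ℕ) :
    ∀ (H : Subgroup G), W ≤ H →
      (∀ r ∈ s, r ^ (Nat.card H).factorization r ∣ Nat.card W) →
      ∀ A : Subgroup G, A ≤ H → (∀ a ∈ A, ∀ b ∈ A, a * b = b * a) →
      (∀ a ∈ A, IsPiElem (↑s : Set ℕ) a) → ∃ g ∈ H, ∀ a ∈ A, g * a * g⁻¹ ∈ W := by
  classical
  induction s using Finset.induction_on with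
  | empty =>
    intro H _ _ A _ _ hsA
    refine ⟨1, one_mem _, fun a ha => ?_⟩
    have : a = 1 := (hsA a ha).eq_one fun q hq hd h => (Finset.notMem_empty q h).elim
    simp [this, one_mem]
  | insert q s hqs ih =>
    intro H hWH hfull A hAH hA hsA
    by_cases hq : q.Prime
    swap
    · refine ih H hWH (fun r hr => hfull r (Finset.mem_insert_of_mem hr)) A hAH hA
        fun a ha r hr hd => ?_
      have := hsA a ha r hr hd
      rcases Finset.mem_insert.mp this with rfl | h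
      exacts [absurd hr hq, h]
    haveI : Fact q.Prime := ⟨hq⟩
    let Aq := piSub A hA {q}
    have hAqp : IsPGroup q Aq := by
      intro a
      obtain ⟨k, hk⟩ : ∃ k, orderOf (a : G) = q ^ k :=
        ⟨_, Nat.eq_prime_pow_of_unique_prime_dvd (orderOf_pos _).ne'
          fun {d} hd hdd => a.2.2 d hd hdd⟩
      exact ⟨k, Subtype.ext (by rw [Subgroup.coe_pow, ← hk, pow_orderOf_eq_one]; rfl)⟩
    obtain ⟨S⟩ : Nonempty (Sylow q W) := inferInstance
    have hS : Nat.card ↥((S : Subgroup W).map W.subtype) =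
        q ^ (Nat.card H).factorization q := by
      rw [Subgroup.card_map_of_injective W.subtype_injective, S.card_eq_multiplicity]
      refine congrArg (q ^ ·) (le_antisymm ?_ ?_)
      · exact (Nat.factorization_le_iff_dvd Nat.card_pos.ne' Nat.card_pos.ne').mpr
          (Subgroup.card_dvd_of_le hWH) q
      · exact (Nat.Prime.pow_dvd_iff_le_factorization hq Nat.card_pos.ne').mp
          (hfull q (Finset.mem_insert_self q s))
    have hSW : (S : Subgroup W).map W.subtype ≤ W := Subgroup.map_subtype_le _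
    obtain ⟨g, hg⟩ := exists_conj_subgroup_le_sylow (G := H) (A := Aq.subgroupOf H)
      (Q := ((S : Subgroup W).map W.subtype).subgroupOf H)
      (hAqp.comap_of_injective _ H.subtype_injective)
      (by rw [Nat.card_congr (Subgroup.subgroupOfEquivOfLe (hSW.trans hWH)).toEquiv, hS])
    have hgq : ∀ a ∈ Aq, (g : G) * a * (g : G)⁻¹ ∈ W := fun a ha =>
      hSW (hg ⟨a, hAH ha.1⟩ ha)
    let A' := piSub A hA {q}ᶜ
    let φ : G →* G := (MulAut.conj (g : G)).toMonoidHom
    let H' : Subgroup G := H ⊓ Subgroup.centralizer ((Aq.map φ : Subgroup G) : Set G)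
    obtain ⟨c, hc, hc'⟩ := ih H' (le_inf hWH fun w hw => Subgroup.mem_centralizer_iff.mpr (by
        rintro _ ⟨a, ha, rfl⟩
        exact hW _ (hgq a ha) w hw))
      (fun r hr => (pow_dvd_pow r ((Nat.factorization_le_iff_dvd Nat.card_pos.ne'
        Nat.card_pos.ne').mpr (Subgroup.card_dvd_of_le inf_le_left) r)).trans
          (hfull r (Finset.mem_insert_of_mem hr)))
      (A'.map φ) (by
        rintro _ ⟨a, ha, rfl⟩
        refine ⟨H.mul_mem (H.mul_mem g.2 (hAH ha.1)) (H.inv_mem g.2), ?_⟩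
        refine Subgroup.mem_centralizer_iff.mpr ?_
        rintro _ ⟨b, hb, rfl⟩
        show φ b * φ a = φ a * φ b
        rw [← map_mul, ← map_mul, hA b hb.1 a ha.1])
      (by
        rintro _ ⟨a, ha, rfl⟩ _ ⟨b, hb, rfl⟩
        rw [← map_mul, ← map_mul, hA a ha.1 b hb.1])
      (by
        rintro _ ⟨a, ha, rfl⟩ r hr hd
        have hd' : r ∣ orderOf a := hd.trans (orderOf_map_dvd φ a)
        rcases Finset.mem_insert.mp (hsA a ha.1 r hr hd') with rfl | h
        · exact absurd rfl (ha.2 r hr hd')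
        · exact h)
    refine ⟨c * g, H.mul_mem hc.1 g.2, fun a ha => ?_⟩
    have h1 : piPart {q} a ∈ Aq := ⟨piPart_mem _ a ha, isPiElem_piPart _ _⟩
    have h2 : piPart' {q} a ∈ A' := ⟨piPart'_mem _ a ha, isPiElem_piPart' _ _⟩
    rw [← piPart_mul_piPart' {q} a, ← conj_mul]
    refine W.mul_mem ?_ ?_
    · have h3 := Subgroup.mem_centralizer_iff.mp hc.2 (φ (piPart {q} a)) ⟨_, h1, rfl⟩
      have e : c * g * piPart {q} a * (c * g)⁻¹ = φ (piPart {q} a) := by
        rw [show c * g * piPart {q} a * (c * g)⁻¹ = c * φ (piPart {q} a) * c⁻¹ by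
          simp [φ, mul_assoc], ← h3, mul_inv_cancel_right]
      rw [e]; exact hgq _ h1
    · have h3 := hc' (φ (piPart' {q} a)) ⟨_, h2, rfl⟩
      rwa [show c * g * piPart' {q} a * (c * g)⁻¹ = c * φ (piPart' {q} a) * c⁻¹ by
        simp [φ, mul_assoc]]

theorem isPiElem_of_card_pm [Finite G] {s : Finset ℕ} (hs : ∀ q ∈ s, q.Prime) {A : Subgroup G}
    {n : ℕ} (hA : Nat.card A = pm s n) {a : G} (ha : a ∈ A) : IsPiElem (↑s : Set ℕ) a := by
  intro q hq hd
  refine prime_dvd_pm hs hq (hd.trans ?_ |>.trans (dvd_of_eq hA))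
  have := orderOf_dvd_natCard (⟨a, ha⟩ : A)
  rwa [Subgroup.orderOf_mk] at this

/-- An element of a subgroup containing an abelian Hall subgroup can be moved into it. -/
theorem exists_conj_elem [Finite G] {s : Finset ℕ} {W H : Subgroup G}
    (hW : ∀ a ∈ W, ∀ b ∈ W, a * b = b * a) (hWH : W ≤ H)
    (hfull : Nat.card W = pm s (Nat.card G)) {b : G} (hb : b ∈ H)
    (hbs : IsPiElem (↑s : Set ℕ) b) : ∃ g ∈ H, g * b * g⁻¹ ∈ W := by
  obtain ⟨g, hg, h⟩ := exists_conj_mem_of_abelianHall W hW s H hWH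
    (fun r hr => (pow_dvd_pow r ((Nat.factorization_le_iff_dvd Nat.card_pos.ne'
        Nat.card_pos.ne').mpr (Subgroup.card_subgroup_dvd_card H) r)).trans
          (hfull ▸ pow_dvd_pm hr _))
    (Subgroup.zpowers b) (Subgroup.zpowers_le.mpr hb)
    (by
      rintro _ ⟨i, rfl⟩ _ ⟨j, rfl⟩
      exact ((Commute.refl b).zpow_zpow i j).eq)
    (by
      rintro _ ⟨i, rfl⟩
      refine hbs.of_dvd ?_
      exact orderOf_dvd_of_mem_zpowers ⟨i, rfl⟩)
  exact ⟨g, hg, h b (Subgroup.mem_zpowers b)⟩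

/-- Abelian Hall subgroups are conjugate. -/
theorem exists_conj_map_eq [Finite G] {s : Finset ℕ} (hs : ∀ q ∈ s, q.Prime)
    {W A H : Subgroup G}
    (hW : ∀ a ∈ W, ∀ b ∈ W, a * b = b * a) (hWH : W ≤ H) (hA : ∀ a ∈ A, ∀ b ∈ A, a * b = b * a)
    (hAH : A ≤ H) (hfull : Nat.card W = pm s (Nat.card G))
    (hfullA : Nat.card A = pm s (Nat.card G)) :
    ∃ g ∈ H, A.map (MulAut.conj g).toMonoidHom = W := by
  obtain ⟨g, hg, h⟩ := exists_conj_mem_of_abelianHall W hW s H hWH
    (fun r hr => (pow_dvd_pow r ((Nat.factorization_le_iff_dvd Nat.card_pos.ne'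
        Nat.card_pos.ne').mpr (Subgroup.card_subgroup_dvd_card H) r)).trans
          (hfull ▸ pow_dvd_pm hr _))
    A hAH hA (fun a ha => isPiElem_of_card_pm hs hfullA ha)
  refine ⟨g, hg, Subgroup.eq_of_le_of_card_ge ?_ (le_of_eq ?_)⟩
  · rintro _ ⟨a, ha, rfl⟩; exact h a ha
  · rw [Subgroup.card_map_of_injective (MulAut.conj g).injective, hfull, hfullA]

theorem mul_eq_mul_of_mem_sup {A B : Subgroup G} (hA : ∀ a ∈ A, ∀ b ∈ A, a * b = b * a)
    (hB : ∀ a ∈ B, ∀ b ∈ B, a * b = b * a) (hAB : A ≤ Subgroup.centralizer (B : Set G)) :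
    ∀ a ∈ A ⊔ B, ∀ b ∈ A ⊔ B, a * b = b * a := by
  have h : A ⊔ B ≤ Subgroup.centralizer ((A ⊔ B : Subgroup G) : Set G) := by
    rw [Subgroup.le_centralizer_iff]
    refine sup_le ?_ ?_ <;> rw [Subgroup.le_centralizer_iff] <;> refine sup_le ?_ ?_
    · exact fun a ha => Subgroup.mem_centralizer_iff.mpr fun b hb => hA b hb a ha
    · exact fun b hb => Subgroup.mem_centralizer_iff.mpr fun a ha =>
        (Subgroup.mem_centralizer_iff.mp (hAB ha) b hb).symm
    · exact hAB
    · exact fun a ha => Subgroup.mem_centralizer_iff.mpr fun b hb => hB b hb a ha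
  exact fun a ha b hb => (Subgroup.mem_centralizer_iff.mp (h ha) b hb).symm

theorem card_sup_of_commute_coprime [Finite G] {A B : Subgroup G}
    (hAB : A ≤ Subgroup.centralizer (B : Set G)) (hc : (Nat.card A).Coprime (Nat.card B)) :
    Nat.card ↥(A ⊔ B) = Nat.card A * Nat.card B := by
  have comm : ∀ (a : A) (b : B), Commute (A.subtype a) (B.subtype b) :=
    fun a b => (Subgroup.mem_centralizer_iff.mp (hAB a.2) b b.2).symm
  have hrange : (MonoidHom.noncommCoprod A.subtype B.subtype comm).range = A ⊔ B := by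
    rw [MonoidHom.noncommCoprod_range, Subgroup.range_subtype, Subgroup.range_subtype]
  refine le_antisymm ?_ (Nat.le_of_dvd Nat.card_pos ?_)
  · rw [← hrange, ← Nat.card_prod]
    exact Nat.card_le_card_of_surjective _ (MonoidHom.rangeRestrict_surjective _)
  · exact hc.mul_dvd_of_dvd_of_dvd (Subgroup.card_dvd_of_le le_sup_left)
      (Subgroup.card_dvd_of_le le_sup_right)

end Cfsg.Agent.PiMany
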