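import Cfsg.Agent.PiMany.Quot

set_option autoImplicit false
set_option maxHeartbeats 400000

/-!
Groups with many classes of `π`-elements: the nilpotent Hall subgroup.
-/

namespace Cfsg.Agent.PiMany

open FG78

universe u

/-- `s`-part abelian Hall subgroup centralizing a Sylow `p`-subgroup -/
def HallData (G : Type u) [Group G] (p : ℕ) (s : Finset ℕ) : Prop :=
  ∃ (P : Sylow p G) (W : Subgroup G), (∀ a ∈ W, ∀ b ∈ W, a * b = b * a) ∧
    Nat.card W = pm s (Nat.card G) ∧ W ≤ Subgroup.centralizer ((P : Subgroup G) : Set G)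

theorem mul_card_le_of_fibre {A B : Type*} [Finite A] [Finite B] (F : A → B)
    (hF : Function.Surjective F) (Fx : A → Prop) (r : ℕ) (hr : 1 ≤ r)
    (h : ∀ a, ¬ Fx a → r ≤ Nat.card {a' // F a' = F a}) :
    r * Nat.card B ≤ Nat.card A + (r - 1) * Nat.card {a // Fx a} := by
  classical
  haveI := Fintype.ofFinite A
  haveI := Fintype.ofFinite B
  rw [Nat.card_congr (Equiv.sigmaFiberEquiv F).symm,
    Nat.card_congr (Equiv.sigmaFiberEquiv (fun a : {a // Fx a} => F a.1)).symm,
    Nat.card_sigma, Nat.card_sigma, Finset.mul_sum, ← Finset.sum_add_distrib,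
    Nat.card_eq_fintype_card, mul_comm, ← smul_eq_mul, ← Finset.card_univ, ← Finset.sum_const]
  refine Finset.sum_le_sum fun b _ => ?_
  by_cases hb : ∃ a, F a = b ∧ ¬ Fx a
  · obtain ⟨a, rfl, ha⟩ := hb
    exact (h a ha).trans (Nat.le_add_right _ _)
  · push Not at hb
    obtain ⟨a, ha⟩ := hF b
    have h1 : 0 < Nat.card {a' // F a' = b} := by
      haveI : Nonempty {a' // F a' = b} := ⟨⟨a, ha⟩⟩
      exact Nat.card_pos
    have h2 : 0 < Nat.card {a' : {a // Fx a} // F a'.1 = b} := by
      haveI : Nonempty {a' : {a // Fx a} // F a'.1 = b} := ⟨⟨⟨a, hb a ha⟩, ha⟩⟩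
      exact Nat.card_pos
    have h3 : r - 1 ≤ (r - 1) * Nat.card {a' : {a // Fx a} // F a'.1 = b} :=
      Nat.le_mul_of_pos_right _ h2
    omega

section
variable {G : Type u} [Group G] [Finite G]

/-- Good orbit count: an element `n` normalizing `P₀` and `W` but not centralizing `W`. -/
theorem good_bound {p b r : ℕ} {s : Finset ℕ} (hs : ∀ q ∈ s, q.Prime ∧ b ≤ q)
    {P₀ W : Subgroup G} (hWcard : Nat.card W = pm s (Nat.card G))
    {β : Type*} [Finite β] (F : ↥P₀ × ↥W → β) (hF : Function.Surjective F)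
    (n : G) (hnP : ∀ x ∈ P₀, n * x * n⁻¹ ∈ P₀) (hnW : ∀ w ∈ W, n * w * n⁻¹ ∈ W)
    (hne : ∃ w ∈ W, n * w * n⁻¹ ≠ w) (hr1 : 1 ≤ r)
    (hr : ∀ i : ℕ, 0 < i → i < r → n ∈ Subgroup.zpowers (n ^ i))
    (hinv : ∀ (a a' : ↥P₀ × ↥W), (a'.1 : G) = n * a.1 * n⁻¹ → (a'.2 : G) = n * a.2 * n⁻¹ →
      F a' = F a) (hp : p = r) :
    b * (p * Nat.card β) ≤ Nat.card P₀ * Nat.card W * (b + (p - 1)) := by
  subst hp
  let T : ↥P₀ × ↥W → ↥P₀ × ↥W := fun a =>
    (⟨n * a.1 * n⁻¹, hnP _ a.1.2⟩, ⟨n * a.2 * n⁻¹, hnW _ a.2.2⟩)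
  have hFT : ∀ a, F (T a) = F a := fun a => hinv a (T a) rfl rfl
  have hiter : ∀ (i : ℕ) a, F (T^[i] a) = F a ∧
      ((T^[i] a).2 : G) = n ^ i * a.2 * (n ^ i)⁻¹ := by
    intro i a
    induction i with
    | zero => simp
    | succ i ih =>
      rw [Function.iterate_succ_apply']
      refine ⟨(hFT _).trans ih.1, ?_⟩
      show n * ((T^[i] a).2 : G) * n⁻¹ = _
      rw [ih.2, pow_succ', mul_inv_rev]
      simp [mul_assoc]
  let Fx : ↥P₀ × ↥W → Prop := fun a => n * (a.2 : G) * n⁻¹ = a.2
  have h := mul_card_le_of_fibre F hF Fx p hr1 (fun a ha => ?_)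
  swap
  · have hinj : Function.Injective fun i : Fin p =>
        (⟨T^[(i : ℕ)] a, (hiter i a).1⟩ : {a' // F a' = F a}) := by
      have key : ∀ i j : ℕ, i < j → j < p → T^[i] a ≠ T^[j] a := by
        intro i j hij hj he
        have e := congrArg (fun x : ↥P₀ × ↥W => (x.2 : G)) he
        simp only [(hiter _ a).2] at e
        have e2 : Commute (n ^ (j - i)) (a.2 : G) := by
          obtain ⟨d, rfl⟩ := Nat.exists_eq_add_of_le hij.le
          rw [Nat.add_sub_cancel_left]
          rw [pow_add, mul_inv_rev] at e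
          have e3 : (a.2 : G) = n ^ d * a.2 * (n ^ d)⁻¹ := by
            simpa [mul_assoc] using congrArg (fun x => (n ^ i)⁻¹ * x * n ^ i) e
          exact (mul_inv_eq_iff_eq_mul.mp e3.symm)
        obtain ⟨k, hk⟩ := Subgroup.mem_zpowers_iff.mp (hr (j - i) (by omega) (by omega))
        refine ha ?_
        have e4 : Commute n (a.2 : G) := hk ▸ e2.zpow_left k
        show n * (a.2 : G) * n⁻¹ = a.2
        rw [e4.eq, mul_inv_cancel_right]
      intro i j he
      have he' := congrArg Subtype.val he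
      rcases lt_trichotomy (i : ℕ) (j : ℕ) with hlt | heq | hgt
      · exact absurd he' (key _ _ hlt j.2)
      · exact Fin.ext heq
      · exact absurd he'.symm (key _ _ hgt i.2)
    simpa using Nat.card_le_card_of_injective _ hinj
  let D : Subgroup G := W ⊓ Subgroup.centralizer ({n} : Set G)
  have hfix : Nat.card {a // Fx a} ≤ Nat.card P₀ * Nat.card D := by
    rw [← Nat.card_prod]
    refine Nat.card_le_card_of_injective (fun a => (a.1.1, (⟨a.1.2, a.1.2.2,
      Subgroup.mem_centralizer_singleton_iff.mpr (mul_inv_eq_iff_eq_mul.mp a.2).symm⟩ : D))) ?_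
    intro x y hxy
    simp only [Prod.mk.injEq, Subtype.mk.injEq] at hxy
    exact Subtype.ext (Prod.ext hxy.1 (Subtype.ext (congrArg (fun z : D => (z : G)) hxy.2)))
  have hD : b * Nat.card D ≤ Nat.card W := by
    have hDW : D ≤ W := inf_le_left
    obtain ⟨t, ht⟩ := Subgroup.card_dvd_of_le hDW
    have ht1 : t ≠ 1 := by
      rintro rfl
      rw [mul_one] at ht
      obtain ⟨w, hw, hne⟩ := hne
      have := (Subgroup.eq_of_le_of_card_ge hDW ht.le).ge hw
      exact hne (by rw [← Subgroup.mem_centralizer_singleton_iff.mp this.2, mul_inv_cancel_right])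
    obtain ⟨q, hq, hd⟩ := Nat.exists_prime_and_dvd ht1
    have hqs : q ∈ s := prime_dvd_pm (fun q hq => (hs q hq).1) (n := Nat.card G) hq
      (hWcard ▸ hd.trans ⟨Nat.card D, ht.trans (mul_comm _ _)⟩)
    have h0 : t ≠ 0 := fun e => Nat.card_pos.ne' (ht.trans (by rw [e, mul_zero]))
    calc b * Nat.card D ≤ t * Nat.card D :=
          Nat.mul_le_mul_right _ ((hs q hqs).2.trans (Nat.le_of_dvd (Nat.pos_of_ne_zero h0) hd))
      _ = Nat.card W := by rw [mul_comm, ← ht]
  rw [Nat.card_prod] at h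
  calc b * (p * Nat.card β)
      ≤ b * (Nat.card P₀ * Nat.card W + (p - 1) * (Nat.card P₀ * Nat.card D)) :=
        Nat.mul_le_mul_left _ (h.trans (Nat.add_le_add_left (Nat.mul_le_mul_left _ hfix) _))
    _ = b * (Nat.card P₀ * Nat.card W) + (p - 1) * (Nat.card P₀ * (b * Nat.card D)) := by ring
    _ ≤ b * (Nat.card P₀ * Nat.card W) + (p - 1) * (Nat.card P₀ * Nat.card W) :=
        Nat.add_le_add_left (Nat.mul_le_mul_left _ (Nat.mul_le_mul_left _ hD)) _
    _ = _ := by ring

/-- Sylow subgroups for larger primes are abelian. -/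
theorem sylow_comm {p q : ℕ} [hq : Fact q.Prime] {t : Finset ℕ} (ht : ∀ r ∈ t, r.Prime)
    (hqt : q ∈ t) (hpq : p < q)
    (hmany : pm t (Nat.card G) < p * Nat.card (PiClasses (↑t : Set ℕ) G)) (Q : Sylow q G) :
    ∀ a ∈ (Q : Subgroup G), ∀ b ∈ (Q : Subgroup G), a * b = b * a := by
  have h : IsMulCommutative (Q : Subgroup G) := by
    refine isMulCommutative_sylow hpq Q ?_
    have hle := card_union_le (G := G) {q} (t.erase q)
      (fun r hr => ht r (Finset.mem_of_mem_erase hr)) (π := (↑t : Set ℕ))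
      (by simp)
    rw [← Finset.insert_erase hqt, pm_insert (Finset.notMem_erase q t)] at hmany
    rw [Finset.insert_erase hqt] at hmany
    have h2 := hmany.trans_le (Nat.mul_le_mul_left p hle)
    rw [← mul_assoc] at h2
    simp only [Finset.coe_singleton] at h2
    exact Nat.lt_of_mul_lt_mul_right h2
  exact fun a ha b hb => congrArg Subtype.val (mul_comm' (M := (Q : Subgroup G)) ⟨a, ha⟩ ⟨b, hb⟩)

end

/-- Induction step: abelian Hall subgroups for the larger primes. -/
theorem exists_abelianHall_aux {N : ℕ}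
    (IH : ∀ t : Finset ℕ, t.card < N → ∀ p : ℕ, p.Prime → (∀ q ∈ t, q.Prime ∧ p < q) →
      ∀ (G : Type u) [Group G] [Finite G],
        pm (insert p t) (Nat.card G) < p * Nat.card (PiClasses (↑(insert p t) : Set ℕ) G) →
        HallData G p t)
    {p : ℕ} {s : Finset ℕ} (hsN : s.card ≤ N) (hs : ∀ q ∈ s, q.Prime ∧ p < q)
    (G : Type u) [Group G] [Finite G]
    (hmany : pm s (Nat.card G) < p * Nat.card (PiClasses (↑s : Set ℕ) G)) :
    ∃ W : Subgroup G, (∀ a ∈ W, ∀ b ∈ W, a * b = b * a) ∧ Nat.card W = pm s (Nat.card G) := by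
  classical
  rcases s.eq_empty_or_nonempty with rfl | hne
  · exact ⟨⊥, fun a ha b hb => by simp [Subgroup.mem_bot.mp ha, Subgroup.mem_bot.mp hb],
      by simp [pm]⟩
  obtain ⟨b, hb, hbmin⟩ := s.exists_min_image id hne
  haveI : Fact b.Prime := ⟨(hs b hb).1⟩
  have hins : insert b (s.erase b) = s := Finset.insert_erase hb
  obtain ⟨P, W, hW, hWcard, hWP⟩ := IH (s.erase b)
    ((Finset.card_erase_lt_of_mem hb).trans_le hsN) b (hs b hb).1
    (fun q hq => ⟨(hs q (Finset.mem_of_mem_erase hq)).1,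
      lt_of_le_of_ne (hbmin q (Finset.mem_of_mem_erase hq)) (Finset.ne_of_mem_erase hq).symm⟩)
    G (by
      rw [hins]
      exact hmany.trans_le (Nat.mul_le_mul_right _ (hs b hb).2.le))
  have hP := sylow_comm (fun r hr => (hs r hr).1) hb (hs b hb).2 hmany P
  have hWc : W ≤ Subgroup.centralizer ((P : Subgroup G) : Set G) := hWP
  refine ⟨W ⊔ (P : Subgroup G), mul_eq_mul_of_mem_sup hW hP hWc, ?_⟩
  rw [card_sup_of_commute_coprime hWc, hWcard, P.card_eq_multiplicity]
  · conv_rhs => rw [← hins, pm_insert (Finset.notMem_erase b s)]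
    exact mul_comm _ _
  · rw [hWcard, P.card_eq_multiplicity]
    refine Nat.Coprime.pow_right _ (Nat.Coprime.symm ?_)
    refine (hs b hb).1.coprime_iff_not_dvd.mpr fun h => ?_
    exact Finset.notMem_erase b s
      (prime_dvd_pm (fun r hr => (hs r (Finset.mem_of_mem_erase hr)).1) (hs b hb).1 h)

theorem arith_index_ge {p b u : ℕ} (hp : 1 ≤ p) (hpb : p < b) (hu : p ^ 2 ≤ u) :
    p * (b + (u - 1)) ≤ b * u := by
  obtain ⟨a, rfl⟩ : ∃ a, u = a + 1 := ⟨u - 1, by have := Nat.one_le_pow 2 p hp; omega⟩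
  obtain ⟨d, rfl⟩ : ∃ d, b = p + 1 + d := ⟨b - p - 1, by omega⟩
  simp only [Nat.add_sub_cancel]
  nlinarith [Nat.zero_le d, Nat.mul_le_mul_left d (Nat.le_self_pow two_ne_zero p)]

theorem main : ∀ (N : ℕ) (s : Finset ℕ), s.card = N → ∀ p : ℕ, p.Prime →
    (∀ q ∈ s, q.Prime ∧ p < q) → ∀ (G : Type u) [Group G] [Finite G],
      pm (insert p s) (Nat.card G) < p * Nat.card (PiClasses (↑(insert p s) : Set ℕ) G) →
      HallData G p s := by
  intro N
  induction N using Nat.strong_induction_on with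
  | _ N IH =>
  intro s hsN p hp hs G _ _ hmany
  classical
  haveI : Fact p.Prime := ⟨hp⟩
  have hps : p ∉ s := fun h => lt_irrefl p (hs p h).2
  rcases s.eq_empty_or_nonempty with rfl | hne
  · exact ⟨default, ⊥, fun a ha b hb => by simp [Subgroup.mem_bot.mp ha, Subgroup.mem_bot.mp hb],
      by simp [pm], bot_le⟩
  have hs' : ∀ q ∈ s, q.Prime := fun q hq => (hs q hq).1
  have IH' : ∀ t : Finset ℕ, t.card < N → ∀ p : ℕ, p.Prime → (∀ q ∈ t, q.Prime ∧ p < q) →
      ∀ (G : Type u) [Group G] [Finite G],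
        pm (insert p t) (Nat.card G) < p * Nat.card (PiClasses (↑(insert p t) : Set ℕ) G) →
        HallData G p t := fun t ht => IH t.card ht t rfl
  set π : Set ℕ := ↑(insert p s) with hπdef
  have hπp : π \ {p} = ↑s := by
    rw [hπdef, Finset.coe_insert]
    ext q
    simp only [Set.mem_diff, Set.mem_insert_iff, Finset.mem_coe, Set.mem_singleton_iff]
    exact ⟨fun h => h.1.resolve_left h.2, fun h => ⟨Or.inr h, fun e => hps (e ▸ h)⟩⟩
  rw [pm_insert hps] at hmany
  -- the abelian Hall subgroup `W`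
  have hkle : Nat.card (PiClasses π G) ≤
      Nat.card (PiClasses (↑s : Set ℕ) G) * p ^ (Nat.card G).factorization p := by
    refine (card_union_le s {p} (by simp [hp]) ?_).trans (le_of_eq (by simp [pm]))
    intro q hq
    simp only [hπdef, Finset.coe_insert, Set.mem_diff, Set.mem_insert_iff] at hq
    simpa using hq.1.resolve_right hq.2
  obtain ⟨W, hW, hWcard⟩ := exists_abelianHall_aux IH' hsN.le hs G (by
    have h := hmany.trans_le (Nat.mul_le_mul_left p hkle)
    rw [mul_comm (Nat.card (PiClasses (↑s : Set ℕ) G)), ← mul_assoc, mul_comm p, mul_assoc] at h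
    exact Nat.lt_of_mul_lt_mul_left h)
  -- the least prime `b` of `s`
  obtain ⟨b, hb, hbmin⟩ := s.exists_min_image id hne
  simp only [id] at hbmin
  have hpb : p < b := (hs b hb).2
  -- the Sylow subgroup `P₀` of `C(W)`
  let CW : Subgroup G := Subgroup.centralizer (W : Set G)
  obtain ⟨S⟩ : Nonempty (Sylow p CW) := inferInstance
  let P₀ : Subgroup G := (S : Subgroup CW).map CW.subtype
  have hP₀W : P₀ ≤ CW := Subgroup.map_subtype_le _
  have hP₀p : IsPGroup p P₀ := S.isPGroup'.map _
  have hP₀card : Nat.card P₀ = p ^ (Nat.card CW).factorization p := by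
    rw [Subgroup.card_map_of_injective CW.subtype_injective, S.card_eq_multiplicity]
  have hP₀max : ∀ Q : Subgroup G, IsPGroup p Q → Q ≤ CW → P₀ ≤ Q → Q = P₀ := by
    intro Q hQ hQW hle
    refine (Subgroup.eq_of_le_of_card_ge hle ?_).symm
    rw [hP₀card]
    obtain ⟨k, hk⟩ := IsPGroup.iff_card.mp hQ
    rw [hk]
    exact Nat.pow_le_pow_right hp.pos ((Nat.Prime.pow_dvd_iff_le_factorization hp Nat.card_pos.ne').mp
      (hk ▸ Subgroup.card_dvd_of_le hQW))
  obtain ⟨P, hP⟩ := hP₀p.exists_le_sylow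
  by_cases hPeq : (P : Subgroup G) = P₀
  · exact ⟨P, W, hW, hWcard, Subgroup.le_centralizer_iff.mp (hPeq ▸ hP₀W)⟩
  exfalso
  -- good and bad classes
  let Good : PiClasses ({p} : Set ℕ) G → Prop := fun D => ∃ x ∈ P₀, ConjClasses.mk x = D.1
  have hsplit : Nat.card (PiClasses π G) =
      Nat.card {C : PiClasses π G // Good (partClass {p} C)} +
        Nat.card {C : PiClasses π G // ¬ Good (partClass {p} C)} := by
    rw [← Nat.card_sum]
    exact Nat.card_congr (Equiv.sumCompl _).symm
  have hpiP : ∀ x ∈ P₀, IsPiElem ({p} : Set ℕ) x := fun x hx =>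
    isPiElem_singleton_of_pGroup hP₀p hx
  have hpiW : ∀ w ∈ W, IsPiElem (↑s : Set ℕ) w := fun w hw => isPiElem_of_card_pm hs' hWcard hw
  have hcomm : ∀ x ∈ P₀, ∀ w ∈ W, Commute x w := fun x hx w hw =>
    (Subgroup.mem_centralizer_iff.mp (hP₀W hx) w hw).symm
  have hxw : ∀ (x : ↥P₀) (w : ↥W), IsPiElem π ((x : G) * w) := fun x w => by
    refine ((hpiP x x.2).mono ?_).mul ((hpiW w w.2).mono ?_) (hcomm x x.2 w w.2)
    · simp [hπdef]
    · exact hπdef ▸ Finset.coe_subset.mpr (Finset.subset_insert _ _)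
  have hpartxw : ∀ (x : ↥P₀) (w : ↥W), piPart ({p} : Set ℕ) ((x : G) * w) = x := fun x w =>
    (piPart_unique (hcomm x x.2 w w.2) (hpiP x x.2)
      ((hpiW w w.2).mono fun q hq h => hps ((Set.mem_singleton_iff.mp h) ▸ hq)) rfl).1
  let F : ↥P₀ × ↥W → {C : PiClasses π G // Good (partClass {p} C)} := fun a =>
    ⟨piMk π ((a.1 : G) * a.2) (hxw a.1 a.2), a.1, a.1.2, by
      rw [partClass_piMk]
      exact congrArg ConjClasses.mk (hpartxw a.1 a.2).symm⟩
  have hF : Function.Surjective F := by
    rintro ⟨C, x, hx, hC⟩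
    obtain ⟨c, hxc, hcs, hg, rfl⟩ :=
      exists_rep_of_partClass C (hpiP x hx) (Subtype.ext hC.symm)
    rw [hπp] at hcs
    obtain ⟨g, hg', hgW⟩ := exists_conj_elem hW
      (H := Subgroup.centralizer ({x} : Set G))
      (fun w hw => Subgroup.mem_centralizer_singleton_iff.mpr (hcomm x hx w hw).eq.symm)
      hWcard (Subgroup.mem_centralizer_singleton_iff.mpr hxc.eq.symm) hcs
    refine ⟨(⟨x, hx⟩, ⟨_, hgW⟩), Subtype.ext (Subtype.ext ?_)⟩
    refine ConjClasses.mk_eq_mk_iff_isConj.mpr (IsConj.symm (isConj_iff.mpr ⟨g, ?_⟩))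
    show g * (x * c) * g⁻¹ = x * (g * c * g⁻¹)
    rw [← conj_mul, Subgroup.mem_centralizer_singleton_iff.mp hg', mul_inv_cancel_right]
  have hinv : ∀ (n : G) (a a' : ↥P₀ × ↥W), (a'.1 : G) = n * a.1 * n⁻¹ →
      (a'.2 : G) = n * a.2 * n⁻¹ → F a' = F a := fun n a a' h1 h2 => Subtype.ext (Subtype.ext (by
    refine ConjClasses.mk_eq_mk_iff_isConj.mpr (IsConj.symm (isConj_iff.mpr ⟨n, ?_⟩))
    show n * ((a.1 : G) * a.2) * n⁻¹ = a'.1 * a'.2
    rw [h1, h2, conj_mul]))
  -- bad classes
  let BadD := {D : PiClasses ({p} : Set ℕ) G // ¬ Good D}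
  have hbad : b * Nat.card {C : PiClasses π G // ¬ Good (partClass {p} C)} ≤
      Nat.card BadD * Nat.card W := by
    haveI : Fintype BadD := Fintype.ofFinite _
    rw [Nat.card_congr (Equiv.sigmaFiberEquiv (fun C : {C : PiClasses π G //
        ¬ Good (partClass {p} C)} => (⟨partClass {p} C.1, C.2⟩ : BadD))).symm, Nat.card_sigma,
      Finset.mul_sum, Nat.card_eq_fintype_card (α := BadD)]
    refine (Finset.sum_le_card_nsmul _ _ (Nat.card W) fun D _ => ?_).trans
      (by rw [smul_eq_mul, Finset.card_univ])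
    obtain ⟨x, hx, hxD⟩ := exists_piMk D.1
    refine le_trans (Nat.mul_le_mul_left b (le_trans (Nat.card_le_card_of_injective
      (fun C => (⟨C.1.1, by rw [hxD]; exact congrArg Subtype.val C.2⟩ :
        {C : PiClasses π G // partClass {p} C = piMk {p} x hx}))
      fun C C' h => Subtype.ext (Subtype.ext (congrArg Subtype.val h :))) (card_fibre_le hx))) ?_
    rw [hπp]
    set Cx := Subgroup.centralizer ({x} : Set G) with hCx
    have hdvd : pm s (Nat.card Cx) ∣ Nat.card W :=
      hWcard ▸ pm_dvd_of_dvd Nat.card_pos.ne' (Subgroup.card_subgroup_dvd_card Cx)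
    rcases eq_or_ne (pm s (Nat.card Cx)) (Nat.card W) with heq | hneq
    · -- full `s`-part in the centralizer
      by_contra! hlt
      have hins : insert b (s.erase b) = s := Finset.insert_erase hb
      haveI : Fact b.Prime := ⟨hs' b hb⟩
      obtain ⟨Q, V, hV, hVcard, hVQ⟩ := IH' (s.erase b)
        (hsN ▸ Finset.card_erase_lt_of_mem hb) b (hs' b hb)
        (fun q hq => ⟨hs' q (Finset.mem_of_mem_erase hq),
          lt_of_le_of_ne (hbmin q (Finset.mem_of_mem_erase hq)) (Finset.ne_of_mem_erase hq).symm⟩)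
        ↥Cx (by rw [hins, heq]; exact hlt)
      have hfac : (Nat.card Cx).factorization b = (Nat.card G).factorization b := by
        refine le_antisymm ((Nat.factorization_le_iff_dvd Nat.card_pos.ne' Nat.card_pos.ne').mpr
          (Subgroup.card_subgroup_dvd_card Cx) b) ?_
        refine (Nat.Prime.pow_dvd_iff_le_factorization (hs' b hb) Nat.card_pos.ne').mp ?_
        refine (hWcard ▸ pow_dvd_pm hb (Nat.card G)).trans ?_
        rw [← heq]
        exact pm_dvd s hs' _
      have hQ : ∀ a ∈ (Q : Subgroup Cx), ∀ c ∈ (Q : Subgroup Cx), a * c = c * a := by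
        obtain ⟨g, hg⟩ := exists_conj_mem_of_abelianHall W hW s ⊤ le_top
          (fun r hr => by rw [Subgroup.card_top, hWcard]; exact pow_dvd_pm hr _) ⊥ bot_le
          (fun a ha c hc => by simp [Subgroup.mem_bot.mp ha, Subgroup.mem_bot.mp hc])
          (fun a ha => by rw [Subgroup.mem_bot.mp ha]; exact IsPiElem.one _)
        obtain ⟨SW⟩ : Nonempty (Sylow b W) := inferInstance
        have hSW : Nat.card ↥((SW : Subgroup W).map W.subtype) =
            b ^ (Nat.card G).factorization b := by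
          rw [Subgroup.card_map_of_injective W.subtype_injective, SW.card_eq_multiplicity]
          refine congrArg (b ^ ·) (le_antisymm ?_ ?_)
          · exact (Nat.factorization_le_iff_dvd Nat.card_pos.ne' Nat.card_pos.ne').mpr
              (Subgroup.card_subgroup_dvd_card W) b
          · exact (Nat.Prime.pow_dvd_iff_le_factorization (hs' b hb) Nat.card_pos.ne').mp
              (hWcard ▸ pow_dvd_pm hb _)
        obtain ⟨g, hg⟩ := exists_conj_subgroup_le_sylow
          (Q.isPGroup'.map Cx.subtype) hSW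
        intro a ha c hc
        have h1 := Subgroup.map_subtype_le _ (hg _ (Subgroup.mem_map_of_mem _ ha))
        have h2 := Subgroup.map_subtype_le _ (hg _ (Subgroup.mem_map_of_mem _ hc))
        have h3 := hW _ h1 _ h2
        rw [conj_mul, conj_mul] at h3
        exact Subtype.ext (mul_left_cancel (mul_right_cancel h3))
      let A : Subgroup G := (V ⊔ (Q : Subgroup Cx)).map Cx.subtype
      have hA : ∀ a ∈ A, ∀ c ∈ A, a * c = c * a := by
        rintro _ ⟨a, ha, rfl⟩ _ ⟨c, hc, rfl⟩
        exact congrArg Cx.subtype (mul_eq_mul_of_mem_sup hV hQ hVQ a ha c hc)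
      have hAcard : Nat.card A = pm s (Nat.card G) := by
        rw [Subgroup.card_map_of_injective Cx.subtype_injective,
          card_sup_of_commute_coprime hVQ, hVcard, Q.card_eq_multiplicity]
        · rw [← hWcard, ← heq]
          conv_rhs => rw [← hins, pm_insert (Finset.notMem_erase b s)]
          exact mul_comm _ _
        · rw [hVcard, Q.card_eq_multiplicity]
          refine Nat.Coprime.pow_right _ (Nat.Coprime.symm ?_)
          refine (hs' b hb).coprime_iff_not_dvd.mpr fun h => ?_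
          exact Finset.notMem_erase b s
            (prime_dvd_pm (fun r hr => hs' r (Finset.mem_of_mem_erase hr)) (hs' b hb) h)
      obtain ⟨g, -, hmap⟩ := exists_conj_map_eq hs' hW (H := ⊤) le_top hA le_top hWcard hAcard
      have hgx : g * x * g⁻¹ ∈ CW := Subgroup.mem_centralizer_iff.mpr fun w hw => by
        rw [SetLike.mem_coe, ← hmap] at hw
        obtain ⟨_, ⟨a, -, rfl⟩, rfl⟩ := hw
        have h := Subgroup.mem_centralizer_singleton_iff.mp a.2
        show (g * (a : G) * g⁻¹) * (g * x * g⁻¹) = g * x * g⁻¹ * (g * (a : G) * g⁻¹)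
        rw [conj_mul, conj_mul, h]
      have hgp : IsPiElem ({p} : Set ℕ) (⟨_, hgx⟩ : CW) :=
        ((isPiElem_conj_iff g x).mpr hx).of_dvd (dvd_of_eq (Subgroup.orderOf_mk _ _))
      obtain ⟨c, hc⟩ := exists_conj_mem_sylow hgp S
      refine D.2 ⟨(c : G) * (g * x * g⁻¹) * (c : G)⁻¹, ⟨_, hc, rfl⟩, ?_⟩
      rw [← hxD]
      refine ConjClasses.mk_eq_mk_iff_isConj.mpr (isConj_iff.mpr ⟨((c : G) * g), ?_⟩).symm
      simp [mul_assoc]
    · obtain ⟨t, ht⟩ := hdvd
      have ht1 : t ≠ 1 := fun e => hneq (by rw [ht, e, mul_one])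
      have ht0 : t ≠ 0 := fun e => Nat.card_pos.ne' (ht.trans (by rw [e, mul_zero]))
      obtain ⟨q, hq, hd⟩ := Nat.exists_prime_and_dvd ht1
      have hqs : q ∈ s := prime_dvd_pm hs' (n := Nat.card G) hq
        (hWcard ▸ hd.trans ⟨_, ht.trans (mul_comm _ _)⟩)
      calc b * Nat.card (PiClasses (↑s : Set ℕ) ↥Cx) ≤ t * pm s (Nat.card Cx) :=
            Nat.mul_le_mul ((hbmin q hqs).trans (Nat.le_of_dvd (Nat.pos_of_ne_zero ht0) hd))
              (card_piClasses_finset_le s hs' _)
        _ = Nat.card W := by rw [mul_comm, ← ht]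
  -- representatives of the bad classes
  have hrep : ∀ D : BadD, ∃ x ∈ (P : Subgroup G), x ∉ P₀ ∧ ConjClasses.mk x = D.1.1 := by
    intro D
    obtain ⟨x, hx, hxD⟩ := exists_piMk D.1
    obtain ⟨c, hc⟩ := exists_conj_mem_sylow hx P
    have e : ConjClasses.mk (c * x * c⁻¹) = D.1.1 := by
      rw [← hxD]
      exact ConjClasses.mk_eq_mk_iff_isConj.mpr (isConj_iff.mpr ⟨c, rfl⟩).symm
    exact ⟨_, hc, fun h => D.2 ⟨_, h, e⟩, e⟩
  choose rep hrepP hrepN hrepD using hrep
  let Out := {x : ↥(P : Subgroup G) // (x : G) ∉ P₀}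
  have hout : Nat.card Out + Nat.card P₀ = Nat.card (P : Subgroup G) := by
    have e := Nat.card_congr (Equiv.sumCompl (fun x : ↥(P : Subgroup G) => (x : G) ∈ P₀))
    rw [Nat.card_sum] at e
    have e2 : Nat.card {x : ↥(P : Subgroup G) // (x : G) ∈ P₀} = Nat.card P₀ :=
      Nat.card_congr ((Subgroup.subgroupOfEquivOfLe hP).toEquiv)
    have e3 : Nat.card Out = Nat.card {x : ↥(P : Subgroup G) // ¬ (x : G) ∈ P₀} := rfl
    omega
  have hbadD : Nat.card BadD ≤ Nat.card Out := by
    refine Nat.card_le_card_of_injective (fun D => ⟨⟨rep D, hrepP D⟩, hrepN D⟩) fun D D' h => ?_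
    have h' : rep D = rep D' := congrArg (fun z : Out => ((z.1 : ↥(P : Subgroup G)) : G)) h
    exact Subtype.ext (Subtype.ext (by rw [← hrepD D, ← hrepD D', h']))
  have hPcard := P.card_eq_multiplicity
  rw [← hPcard] at hmany
  rw [← hWcard] at hmany
  -- `|P : P₀|`
  obtain ⟨u, hu⟩ := Subgroup.card_dvd_of_le hP
  have hu1 : u ≠ 1 := fun e =>
    hPeq (Subgroup.eq_of_le_of_card_ge hP (by rw [hu, e, mul_one])).symm
  obtain ⟨i, -, hi⟩ := (Nat.dvd_prime_pow hp).mp (⟨_, (hPcard.symm.trans hu).trans (mul_comm _ _)⟩ :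
    u ∣ p ^ (Nat.card G).factorization p)
  have hi0 : i ≠ 0 := fun e => hu1 (by rw [hi, e, pow_zero])
  have houtu : Nat.card Out = Nat.card P₀ * (u - 1) := by
    rw [Nat.mul_sub, mul_one, ← hu]; omega
  have hgood0 : Nat.card {C : PiClasses π G // Good (partClass {p} C)} ≤
      Nat.card P₀ * Nat.card W := by
    rw [← Nat.card_prod]
    exact Nat.card_le_card_of_surjective F hF
  rcases (Nat.lt_or_ge i 2) with hlt | hge
  swap
  · have hu2 : p ^ 2 ≤ u := hi ▸ Nat.pow_le_pow_right hp.pos hge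
    have h : b * (p * Nat.card (PiClasses π G)) ≤
        b * (Nat.card (P : Subgroup G) * Nat.card W) := by
      calc b * (p * Nat.card (PiClasses π G))
          = p * (b * Nat.card {C : PiClasses π G // Good (partClass {p} C)} +
              b * Nat.card {C : PiClasses π G // ¬ Good (partClass {p} C)}) := by rw [hsplit]; ring
        _ ≤ p * (b * (Nat.card P₀ * Nat.card W) + Nat.card P₀ * (u - 1) * Nat.card W) :=
            Nat.mul_le_mul_left _ (Nat.add_le_add (Nat.mul_le_mul_left _ hgood0)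
              (hbad.trans (Nat.mul_le_mul_right _ (hbadD.trans houtu.le))))
        _ = Nat.card P₀ * Nat.card W * (p * (b + (u - 1))) := by ring
        _ ≤ Nat.card P₀ * Nat.card W * (b * u) :=
            Nat.mul_le_mul_left _ (arith_index_ge hp.one_le hpb hu2)
        _ = b * (Nat.card (P : Subgroup G) * Nat.card W) := by rw [hu]; ring
    exact absurd (Nat.le_of_mul_le_mul_left h (hpb.trans_le' (Nat.zero_le p))) (not_le.mpr hmany)
  · have hup : u = p := by rw [hi, show i = 1 by omega, pow_one]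
    subst hup
    have hindex : (P₀.subgroupOf (P : Subgroup G)).index = u := by
      have h := (P₀.subgroupOf (P : Subgroup G)).card_mul_index
      rw [Nat.card_congr (Subgroup.subgroupOfEquivOfLe hP).toEquiv, hu] at h
      exact Nat.eq_of_mul_eq_mul_left Nat.card_pos h
    have hnormal : (P₀.subgroupOf (P : Subgroup G)).Normal := by
      refine Subgroup.normal_of_index_eq_minFac_card ?_
      rw [hindex, hPcard, Nat.Prime.pow_minFac hp]
      intro e
      rw [e, pow_zero] at hPcard
      have := Nat.card_pos (α := P₀)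
      nlinarith [hp.two_le]
    let T : Subgroup G := Subgroup.normalizer (P₀ : Set G)
    have hPT : (P : Subgroup G) ≤ T :=
      (Subgroup.normal_subgroupOf_iff_le_normalizer hP).mp hnormal
    have hWT : W ≤ T := fun w hw => Subgroup.mem_normalizer_iff.mpr fun x => by
      constructor
      · intro hx
        rwa [show w * x * w⁻¹ = x by rw [← (hcomm x hx w hw).eq, mul_inv_cancel_right]]
      · intro hx
        have := (hcomm _ hx w hw).eq
        have e : w * x * w⁻¹ = x := by
          have := congrArg (fun z => w⁻¹ * z) this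
          simpa [mul_assoc] using this.symm
        rwa [← e]
    have hTP₀ : ∀ t ∈ T, ∀ x ∈ P₀, t * x * t⁻¹ ∈ P₀ := fun t ht x hx =>
      (Subgroup.mem_normalizer_iff.mp ht x).mp hx
    have harith : ∀ g β : ℕ,
        g + β * (Nat.card P₀ * Nat.card W) ≤ b * u * (Nat.card P₀ * Nat.card W) →
        b * (u * Nat.card (PiClasses π G)) ≤ g + β * (Nat.card P₀ * Nat.card W) → False := by
      intro g β h1 h2
      refine absurd (Nat.le_of_mul_le_mul_left ?_ (hpb.trans_le' (Nat.zero_le u))) (not_le.mpr hmany)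
      refine h2.trans (h1.trans (le_of_eq ?_))
      rw [hu]; ring
    obtain ⟨m, hm⟩ : ∃ m, u = m + 1 := ⟨u - 1, by have := hp.two_le; omega⟩
    by_cases hA : ∃ n ∈ T, IsPiElem ({u} : Set ℕ) n ∧ (∀ w ∈ W, n * w * n⁻¹ ∈ W) ∧
        ∃ w ∈ W, n * w * n⁻¹ ≠ w
    · obtain ⟨n, hnT, hnp, hnW, hne'⟩ := hA
      have hg := good_bound (r := u) (b := b) (fun q hq => ⟨hs' q hq, hbmin q hq⟩) hWcard F hF n
        (hTP₀ n hnT) hnW hne' hp.one_le (fun j hj0 hjp => by
          obtain ⟨k, hk⟩ : ∃ k, orderOf n = u ^ k :=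
            ⟨_, Nat.eq_prime_pow_of_unique_prime_dvd (orderOf_pos n).ne'
              fun {d} hd hdd => hnp d hd hdd⟩
          have hc : (orderOf n).Coprime j := by
            rw [hk]
            exact Nat.Coprime.pow_left _ (hp.coprime_iff_not_dvd.mpr
              fun h => absurd (Nat.le_of_dvd hj0 h) (not_le.mpr hjp))
          obtain ⟨d, hd⟩ := exists_pow_eq_self_of_coprime hc.symm
          exact ⟨(d : ℤ), by simpa [← pow_mul, zpow_natCast] using hd⟩)
        (hinv n) rfl
      refine harith (Nat.card P₀ * Nat.card W * (b + (u - 1))) (u * (u - 1)) ?_ ?_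
      · have : b + (u - 1) + u * (u - 1) ≤ b * u := by
          obtain ⟨d, rfl⟩ : ∃ d, b = u + 1 + d := ⟨b - u - 1, by omega⟩
          subst hm
          simp only [Nat.add_sub_cancel]
          nlinarith [Nat.zero_le (d * m)]
        calc _ = (Nat.card P₀ * Nat.card W) * (b + (u - 1) + u * (u - 1)) := by ring
          _ ≤ (Nat.card P₀ * Nat.card W) * (b * u) := Nat.mul_le_mul_left _ this
          _ = _ := by ring
      · calc b * (u * Nat.card (PiClasses π G))
            = b * (u * Nat.card {C : PiClasses π G // Good (partClass {u} C)}) +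
              u * (b * Nat.card {C : PiClasses π G // ¬ Good (partClass {u} C)}) := by
              rw [hsplit]; ring
          _ ≤ _ := Nat.add_le_add hg ((Nat.mul_le_mul_left _
              (hbad.trans (Nat.mul_le_mul_right _ (hbadD.trans houtu.le)))).trans (le_of_eq (by ring)))
    · -- the quotient `T / P₀`
      push Not at hA
      let R : Subgroup T := P₀.subgroupOf T
      haveI hRn : R.Normal := Subgroup.normal_in_normalizer
      let f := QuotientGroup.mk' R
      let fW : Subgroup (T ⧸ R) := (W.subgroupOf T).map f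
      have hdisj : ∀ x ∈ P₀, x ∈ W → x = 1 := fun x hx hxW =>
        (hpiP x hx).eq_one ((hpiW x hxW).mono fun q hq h => hps ((Set.mem_singleton_iff.mp h) ▸ hq))
      have hfinj : ∀ a ∈ W.subgroupOf T, f a = 1 → a = 1 := fun a ha h =>
        Subtype.ext (hdisj a ((QuotientGroup.eq_one_iff a).mp h) ha)
      have hfWcard : Nat.card fW = Nat.card W := by
        rw [← Nat.card_congr (Subgroup.subgroupOfEquivOfLe hWT).toEquiv]
        refine le_antisymm (Nat.le_of_dvd Nat.card_pos (Subgroup.card_map_dvd _ _)) ?_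
        refine Nat.card_le_card_of_injective (fun a => ⟨f a, Subgroup.mem_map_of_mem f a.2⟩) ?_
        intro a c h
        have h' : f a = f c := congrArg Subtype.val h
        refine Subtype.ext (inv_mul_eq_one.mp (hfinj ((a : T)⁻¹ * c)
          ((W.subgroupOf T).mul_mem ((W.subgroupOf T).inv_mem a.2) c.2) ?_))
        rw [map_mul, map_inv, h', inv_mul_cancel]
      have hXdvd : Nat.card (T ⧸ R) ∣ Nat.card G :=
        (Subgroup.card_quotient_dvd_card R).trans (Subgroup.card_subgroup_dvd_card T)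
      have hXW : pm s (Nat.card (T ⧸ R)) = Nat.card W := by
        rw [hWcard]
        refine Finset.prod_congr rfl fun q hq => congrArg (q ^ ·) (le_antisymm ?_ ?_)
        · exact (Nat.factorization_le_iff_dvd Nat.card_pos.ne' Nat.card_pos.ne').mpr hXdvd q
        · refine (Nat.Prime.pow_dvd_iff_le_factorization (hs' q hq) Nat.card_pos.ne').mp ?_
          exact (hWcard ▸ pow_dvd_pm hq (Nat.card G)).trans
            (hfWcard ▸ Subgroup.card_subgroup_dvd_card fW)
      have hfWab : ∀ a ∈ fW, ∀ c ∈ fW, a * c = c * a := by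
        rintro _ ⟨a, ha, rfl⟩ _ ⟨c, hc, rfl⟩
        rw [← map_mul, ← map_mul]
        exact congrArg f (Subtype.ext (hW _ ha _ hc))
      have hlift : ∀ t : T, (∀ w ∈ fW, f t * w * (f t)⁻¹ ∈ fW) →
          ∀ w ∈ W, (t : G) * w * (t : G)⁻¹ ∈ W := by
        intro t ht w hw
        obtain ⟨w', hw', e⟩ := ht _ (Subgroup.mem_map_of_mem f (x := ⟨w, hWT hw⟩) hw)
        have e' : f ((t * ⟨w, hWT hw⟩ * t⁻¹) * w'⁻¹) = 1 := by
          rw [map_mul, map_inv, e, map_mul, map_mul, map_inv, mul_inv_cancel]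
        have hz : (t : G) * w * (t : G)⁻¹ * (w' : G)⁻¹ ∈ P₀ :=
          Subgroup.mem_subgroupOf.mp ((QuotientGroup.eq_one_iff (N := R) _).mp e')
        set z := (t : G) * w * (t : G)⁻¹ * (w' : G)⁻¹ with hzdef
        have hzw : z * (w' : G) = (t : G) * w * (t : G)⁻¹ := by rw [hzdef, inv_mul_cancel_right]
        have hu1' := (piPart_unique (hcomm z hz w' hw') (hpiP z hz)
          ((hpiW _ hw').mono fun q hq h => hps ((Set.mem_singleton_iff.mp h) ▸ hq)) hzw).1
        have hu2' := (piPart_unique (π := ({u} : Set ℕ))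
          (Commute.one_left ((t : G) * w * (t : G)⁻¹)) (IsPiElem.one _)
          ((isPiElem_conj_iff _ _).mpr
            ((hpiW w hw).mono fun q hq h => hps ((Set.mem_singleton_iff.mp h) ▸ hq))) (one_mul _)).1
        rw [← hzw, hu1'.symm.trans hu2', one_mul]
        exact hw'
      have hN : ∀ y : T ⧸ R, IsPiElem {u} y → (∀ w ∈ fW, y * w * y⁻¹ ∈ fW) → y = 1 := by
        intro y hy hyW
        obtain ⟨t, rfl⟩ := QuotientGroup.mk'_surjective R y
        have e : f (piPart {u} t) = f t := by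
          conv_rhs => rw [← piPart_mul_piPart' {u} t, map_mul, map_piPart'_eq_one f hy, mul_one]
        set t' := piPart {u} t
        have hn := hlift t' (by rw [e]; exact hyW)
        have ht' : IsPiElem ({u} : Set ℕ) (t' : G) :=
          (isPiElem_piPart _ t).map T.subtype
        have hcW := hA t' t'.2 ht' hn
        have htC : (t' : G) ∈ CW := Subgroup.mem_centralizer_iff.mpr fun w hw =>
          (mul_inv_eq_iff_eq_mul.mp (hcW w hw)).symm
        have hQ := hP₀max (Subgroup.zpowers (t' : G) ⊔ P₀)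
          ((isPGroup_zpowers_of_isPiElem ht').to_sup_of_normal_right' hP₀p
            (Subgroup.zpowers_le.mpr t'.2))
          (sup_le (Subgroup.zpowers_le.mpr htC) hP₀W) le_sup_right
        rw [← e]
        exact (QuotientGroup.eq_one_iff t').mpr (Subgroup.mem_subgroupOf.mpr
          (hQ.le (Subgroup.mem_sup_left (Subgroup.mem_zpowers (t' : G)))))
      let g : ↥(P : Subgroup G) →* T ⧸ R := f.comp (Subgroup.inclusion hPT)
      have hker : g.ker = P₀.subgroupOf (P : Subgroup G) := by
        ext z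
        exact QuotientGroup.eq_one_iff _
      have hgcard : Nat.card g.range = u := by rw [← Subgroup.index_ker, hker, hindex]
      have hfac1 : (Nat.card (T ⧸ R)).factorization u = 1 := by
        refine le_antisymm ?_ ((Nat.Prime.pow_dvd_iff_le_factorization hp Nat.card_pos.ne').mp
          (by rw [pow_one]; exact (dvd_of_eq hgcard.symm).trans (Subgroup.card_subgroup_dvd_card _)))
        have h1 : Nat.card R * Nat.card (T ⧸ R) ∣ Nat.card G := by
          rw [← Subgroup.index_eq_card, Subgroup.card_mul_index]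
          exact Subgroup.card_subgroup_dvd_card T
        rw [Nat.card_congr (Subgroup.subgroupOfEquivOfLe (hP.trans hPT)).toEquiv] at h1
        have h2 := (Nat.factorization_le_iff_dvd
          (Nat.mul_ne_zero Nat.card_pos.ne' Nat.card_pos.ne') Nat.card_pos.ne').mpr h1 u
        rw [Nat.factorization_mul Nat.card_pos.ne' Nat.card_pos.ne', Finsupp.add_apply] at h2
        have h3 := congrArg (fun z : ℕ => z.factorization u) (hu.symm.trans hPcard)
        simp only [Nat.factorization_mul Nat.card_pos.ne' hp.ne_zero, Finsupp.add_apply,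
          Nat.Prime.factorization_self hp, Nat.Prime.factorization_pow hp,
          Finsupp.single_eq_same] at h3
        omega
      let PX : Sylow u (T ⧸ R) := Sylow.ofCard g.range (by rw [hgcard, hfac1, pow_one])
      have hsu : ∀ q ∈ s, q.Prime ∧ u < q := hs
      obtain ⟨y, hy, z, hz, hyz⟩ := exists_fusion_p hsu hfWab (hfWcard.trans hXW.symm) PX hgcard hN
      obtain ⟨y', hy', w', hw', hne'⟩ :=
        exists_fusion_s hsu hfWab (hfWcard.trans hXW.symm) PX hgcard hN
      obtain ⟨n, rfl⟩ := QuotientGroup.mk'_surjective R y'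
      obtain ⟨h, rfl⟩ := QuotientGroup.mk'_surjective R y
      have hh : ∀ x ∈ (P : Subgroup G), (h : G) * x * (h : G)⁻¹ ∈ (P : Subgroup G) := by
        intro x hx
        obtain ⟨x', hx'⟩ := (Subgroup.mem_normalizer_iff.mp hy (g ⟨x, hx⟩)).mp ⟨⟨x, hx⟩, rfl⟩
        have e : f ((Subgroup.inclusion hPT x') * (h * ⟨x, hPT hx⟩ * h⁻¹)⁻¹) = 1 := by
          rw [map_mul, map_inv, map_mul, map_mul, map_inv, mul_inv_eq_one]
          exact hx'
        have h1 : (x' : G) * ((h : G) * x * (h : G)⁻¹)⁻¹ ∈ (P : Subgroup G) :=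
          hP (Subgroup.mem_subgroupOf.mp ((QuotientGroup.eq_one_iff (N := R) _).mp e))
        rwa [Subgroup.mul_mem_cancel_left _ x'.2, Subgroup.inv_mem_iff] at h1
      have hmove : ∀ x ∈ (P : Subgroup G), x ∉ P₀ → (h : G) * x * (h : G)⁻¹ ≠ x := by
        intro x hx hx0 e
        refine hyz ?_
        have hxne : g ⟨x, hx⟩ ≠ 1 := fun h1 =>
          hx0 (Subgroup.mem_subgroupOf.mp ((QuotientGroup.eq_one_iff (N := R) _).mp h1))
        have hfix : f h * g ⟨x, hx⟩ * (f h)⁻¹ = g ⟨x, hx⟩ := by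
          show f h * f ⟨x, hPT hx⟩ * (f h)⁻¹ = f ⟨x, hPT hx⟩
          rw [← map_inv, ← map_mul, ← map_mul]
          exact congrArg f (Subtype.ext e)
        have hz' : z ∈ g.range := hz
        haveI : Fact (Nat.Prime (Nat.card g.range)) := ⟨hgcard.symm ▸ hp⟩
        have hzp := mem_zpowers_of_prime_card (G := g.range) rfl
          (g := ⟨g ⟨x, hx⟩, ⟨⟨x, hx⟩, rfl⟩⟩) (g' := ⟨z, hz'⟩) (fun e => hxne (congrArg Subtype.val e))
        obtain ⟨i, hi⟩ := Subgroup.mem_zpowers_iff.mp hzp
        have hi' : g ⟨x, hx⟩ ^ i = z := congrArg Subtype.val hi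
        rw [← hi', ← conj_zpow, hfix]
      have hbadD2 : 2 * Nat.card BadD ≤ Nat.card Out := by
        rw [mul_comm, show (2 : ℕ) = Nat.card Bool by simp, ← Nat.card_prod]
        have hcls : ∀ D : BadD, ConjClasses.mk ((h : G) * rep D * (h : G)⁻¹) = D.1.1 := fun D => by
          rw [← hrepD D]
          exact ConjClasses.mk_eq_mk_iff_isConj.mpr (isConj_iff.mpr ⟨(h : G), rfl⟩).symm
        refine Nat.card_le_card_of_injective (fun a => if a.2 then
          ⟨⟨(h : G) * rep a.1 * (h : G)⁻¹, hh _ (hrepP a.1)⟩, fun h0 => a.1.2 ⟨_, h0, hcls a.1⟩⟩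
          else ⟨⟨rep a.1, hrepP a.1⟩, hrepN a.1⟩) ?_
        rintro ⟨D, β⟩ ⟨D', β'⟩ e
        have e' := congrArg (fun z : Out => ((z.1 : ↥(P : Subgroup G)) : G)) e
        have c0 : ∀ (D : BadD) (β : Bool), ((((if β then
            ⟨⟨(h : G) * rep D * (h : G)⁻¹, hh _ (hrepP D)⟩, fun h0 => D.2 ⟨_, h0, hcls D⟩⟩
            else ⟨⟨rep D, hrepP D⟩, hrepN D⟩ : Out)).1 : ↥(P : Subgroup G)) : G) =
            if β then (h : G) * rep D * (h : G)⁻¹ else rep D := by
          intro D β; cases β <;> rfl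
        simp only [c0] at e'
        have eD : D = D' := by
          refine Subtype.ext (Subtype.ext ?_)
          cases β <;> cases β' <;> simp only [if_true, if_false, Bool.false_eq_true] at e' <;>
            have := congrArg ConjClasses.mk e' <;> simp only [hcls, hrepD] at this <;> exact this
        subst eD
        cases β <;> cases β' <;> simp only [if_true, if_false, Bool.false_eq_true] at e'
        · rfl
        · exact absurd e'.symm (hmove _ (hrepP D) (hrepN D))
        · exact absurd e' (hmove _ (hrepP D) (hrepN D))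
        · rfl
      have hnW := hlift n hy'
      have hne'' : ∃ w ∈ W, (n : G) * w * (n : G)⁻¹ ≠ w := by
        obtain ⟨a, ha, rfl⟩ := hw'
        refine ⟨a, ha, fun e => hne' ?_⟩
        show f n * f a * (f n)⁻¹ = f a
        rw [← map_inv, ← map_mul, ← map_mul]
        exact congrArg f (Subtype.ext e)
      have hg2 := good_bound (p := 2) (r := 2) (b := b) (fun q hq => ⟨hs' q hq, hbmin q hq⟩) hWcard
        F hF n (hTP₀ n n.2) hnW hne'' (by omega)
        (fun i h0 h2 => by rw [show i = 1 by omega, pow_one]; exact Subgroup.mem_zpowers _)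
        (hinv n) rfl
      have h : 2 * (b * (u * Nat.card (PiClasses π G))) ≤
          2 * (b * (u * (Nat.card P₀ * Nat.card W))) := by
        calc 2 * (b * (u * Nat.card (PiClasses π G)))
            = u * (b * (2 * Nat.card {C : PiClasses π G // Good (partClass {u} C)})) +
              u * (2 * (b * Nat.card {C : PiClasses π G // ¬ Good (partClass {u} C)})) := by
              rw [hsplit]; ring
          _ ≤ u * (Nat.card P₀ * Nat.card W * (b + (2 - 1))) +
              u * (Nat.card P₀ * (u - 1) * Nat.card W) :=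
              Nat.add_le_add (Nat.mul_le_mul_left _ hg2) (Nat.mul_le_mul_left _
                ((Nat.mul_le_mul_left 2 hbad).trans (le_of_eq_of_le (mul_assoc _ _ _).symm
                  (Nat.mul_le_mul_right _ (hbadD2.trans houtu.le)))))
          _ = u * (Nat.card P₀ * Nat.card W) * (b + 1 + (u - 1)) := by ring
          _ ≤ u * (Nat.card P₀ * Nat.card W) * (2 * b) := Nat.mul_le_mul_left _ (by omega)
          _ = _ := by ring
      refine absurd (Nat.le_of_mul_le_mul_left (Nat.le_of_mul_le_mul_left h two_pos)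
        (hpb.trans_le' (Nat.zero_le u))) (not_le.mpr ?_)
      refine lt_of_le_of_lt (le_of_eq ?_) hmany
      rw [hu]; ring

end Cfsg.Agent.PiMany
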