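import Cfsg.Agent.PiMany.Hall

set_option autoImplicit false
set_option maxHeartbeats 400000

/-!
An abelian Hall subgroup next to a Sylow subgroup of order `p`.
-/

namespace Cfsg.Agent.PiMany

open FG78

universe u

variable {X : Type u} [Group X] [Finite X]

theorem piPart_map_ne_one {p : ℕ} {H : Type*} [Group H] (f : X →* H) (n : X)
    (hp : ∀ h : H, IsPiElem {p} h) (hne : f n ≠ 1) : f (piPart {p} n) ≠ 1 := by
  intro h
  refine hne ?_
  rw [← piPart_mul_piPart' {p} n, map_mul, h, one_mul]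
  exact (hp _).eq_one ((isPiElem_piPart' {p} n).map f)

/-- If the abelian Hall subgroup is normalized by no non-trivial `p`-element, the Sylow subgroup
of order `p` has a non-trivial automizer. -/
theorem exists_fusion_p {p : ℕ} [hp : Fact p.Prime] {s : Finset ℕ}
    (hs : ∀ q ∈ s, q.Prime ∧ p < q) {W : Subgroup X} (hW : ∀ a ∈ W, ∀ b ∈ W, a * b = b * a)
    (hcard : Nat.card W = pm s (Nat.card X)) (P : Sylow p X)
    (hP : Nat.card (P : Subgroup X) = p)
    (hN : ∀ y : X, IsPiElem {p} y → (∀ w ∈ W, y * w * y⁻¹ ∈ W) → y = 1) :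
    ∃ y ∈ Subgroup.normalizer ((P : Subgroup X) : Set X), ∃ z ∈ (P : Subgroup X),
      y * z * y⁻¹ ≠ z := by
  by_contra hc
  push Not at hc
  have hPC : Subgroup.normalizer ((P : Subgroup X) : Set X) ≤
      Subgroup.centralizer ((P : Subgroup X) : Set X) := fun y hy =>
    Subgroup.mem_centralizer_iff.mpr fun z hz => (mul_inv_eq_iff_eq_mul.mp (hc y hy z hz)).symm
  set φ := MonoidHom.transferSylow P hPC with hφ
  have hcompl := MonoidHom.ker_transferSylow_isComplement' P hPC
  have hpe : ∀ h : ↥(P : Subgroup X), IsPiElem {p} h := fun h =>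
    (isPiElem_singleton_of_pGroup P.isPGroup' h.2).of_dvd
      (dvd_of_eq (Subgroup.orderOf_coe h).symm)
  have hWK : ∀ w ∈ W, w ∈ φ.ker := fun w hw => by
    refine MonoidHom.mem_ker.mpr ((hpe (φ w)).eq_one ?_)
    refine ((isPiElem_of_card_pm (fun q hq => (hs q hq).1) hcard hw).map φ).mono ?_
    intro q hq h
    exact (hs q hq).2.ne' h
  obtain ⟨x, hx⟩ : ∃ x, x ∈ (P : Subgroup X) ∧ x ≠ 1 := by
    by_contra! h
    exact hp.out.ne_one (hP.symm.trans (by rw [(Subgroup.eq_bot_iff_forall _).mpr h]; simp))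
  have hφx : φ x ≠ 1 := fun h => hx.2 (Subgroup.disjoint_def.mp hcompl.disjoint h hx.1)
  obtain ⟨k, hk, hmap⟩ := exists_conj_map_eq (fun q hq => (hs q hq).1) hW
    (H := φ.ker) hWK (A := W.map (MulAut.conj x).toMonoidHom)
    (by rintro _ ⟨a, ha, rfl⟩ _ ⟨b, hb, rfl⟩; rw [← map_mul, ← map_mul, hW a ha b hb])
    (by
      rintro _ ⟨a, ha, rfl⟩
      exact Subgroup.Normal.conj_mem inferInstance a (hWK a ha) x)
    hcard (by rw [Subgroup.card_map_of_injective (MulAut.conj x).injective, hcard])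
  have hn : ∀ w ∈ W, k * x * w * (k * x)⁻¹ ∈ W := fun w hw => by
    have : (MulAut.conj k).toMonoidHom ((MulAut.conj x).toMonoidHom w) ∈ W := by
      have h := Subgroup.mem_map_of_mem (MulAut.conj k).toMonoidHom
        (Subgroup.mem_map_of_mem (MulAut.conj x).toMonoidHom hw)
      exact hmap ▸ h
    simpa [mul_assoc] using this
  have hφn : φ (k * x) ≠ 1 := by rw [map_mul, MonoidHom.mem_ker.mp hk, one_mul]; exact hφx
  have hne := piPart_map_ne_one φ (k * x) hpe hφn
  refine hne ?_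
  rw [hN _ (isPiElem_piPart _ _) ?_, map_one]
  obtain ⟨i, hi⟩ := exists_piPart_eq_pow {p} (k * x)
  have hpow : ∀ j : ℕ, ∀ w ∈ W, (k * x) ^ j * w * ((k * x) ^ j)⁻¹ ∈ W := by
    intro j
    induction j with
    | zero => intro w hw; simpa using hw
    | succ j ih =>
      intro w hw
      have := hn _ (ih w hw)
      rw [pow_succ', mul_inv_rev]
      simpa [mul_assoc] using this
  rw [hi]
  exact hpow i

/-- If the abelian Hall subgroup is normalized by no non-trivial `p`-element, it is fused. -/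
theorem exists_fusion_s {p : ℕ} [hp : Fact p.Prime] {s : Finset ℕ}
    (hs : ∀ q ∈ s, q.Prime ∧ p < q) {W : Subgroup X} (hW : ∀ a ∈ W, ∀ b ∈ W, a * b = b * a)
    (hcard : Nat.card W = pm s (Nat.card X)) (P : Sylow p X)
    (hP : Nat.card (P : Subgroup X) = p)
    (hN : ∀ y : X, IsPiElem {p} y → (∀ w ∈ W, y * w * y⁻¹ ∈ W) → y = 1) :
    ∃ y : X, (∀ w ∈ W, y * w * y⁻¹ ∈ W) ∧ ∃ w ∈ W, y * w * y⁻¹ ≠ w := by
  by_contra hc
  push Not at hc
  letI : CommGroup ↥W :=
    { (inferInstance : Group ↥W) with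
      mul_comm := fun a b => Subtype.ext (hW a a.2 b b.2) }
  have hs' : ∀ q ∈ s, q.Prime := fun q hq => (hs q hq).1
  set φ : X →* ↥W := MonoidHom.transfer (MonoidHom.id ↥W) with hφ
  have hfuse : ∀ w' ∈ W, ∀ c : X, c * w' * c⁻¹ ∈ W → c * w' * c⁻¹ = w' := by
    intro w' hw' c hw''
    obtain ⟨d, hd, hmap⟩ := exists_conj_map_eq hs' hW
      (H := Subgroup.centralizer ({c * w' * c⁻¹} : Set X))
      (fun w hw => Subgroup.mem_centralizer_singleton_iff.mpr (hW w hw _ hw''))
      (A := W.map (MulAut.conj c).toMonoidHom)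
      (by rintro _ ⟨a, ha, rfl⟩ _ ⟨b, hb, rfl⟩; rw [← map_mul, ← map_mul, hW a ha b hb])
      (by
        rintro _ ⟨a, ha, rfl⟩
        rw [Subgroup.mem_centralizer_singleton_iff]
        show (MulAut.conj c) a * (MulAut.conj c) w' = (MulAut.conj c) w' * (MulAut.conj c) a
        rw [← map_mul, ← map_mul, hW a ha w' hw'])
      hcard (by rw [Subgroup.card_map_of_injective (MulAut.conj c).injective, hcard])
    have hn : ∀ w ∈ W, d * c * w * (d * c)⁻¹ ∈ W := fun w hw => by
      have : (MulAut.conj d).toMonoidHom ((MulAut.conj c).toMonoidHom w) ∈ W := by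
        have h := Subgroup.mem_map_of_mem (MulAut.conj d).toMonoidHom
          (Subgroup.mem_map_of_mem (MulAut.conj c).toMonoidHom hw)
        exact hmap ▸ h
      simpa [mul_assoc] using this
    have e := hc (d * c) hn w' hw'
    have e' : d * (c * w' * c⁻¹) * d⁻¹ = c * w' * c⁻¹ := by
      rw [Subgroup.mem_centralizer_singleton_iff.mp hd, mul_inv_cancel_right]
    rw [← e']
    rw [mul_inv_rev] at e
    simpa [mul_assoc] using e
  have hφW : ∀ w ∈ W, (φ w : X) = w ^ W.index := by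
    intro w hw
    rw [hφ, MonoidHom.transfer_eq_pow _ w ?_]
    · rfl
    · intro j g₀ hmem
      have := hfuse (w ^ j) (W.pow_mem hw j) g₀⁻¹ (by simpa using hmem)
      simpa using this
  have hcop : (Nat.card W).Coprime W.index := by
    refine Nat.coprime_of_dvd fun q hq h1 h2 => ?_
    have hqs := prime_dvd_pm hs' hq (hcard ▸ h1)
    have h3 : q ^ ((Nat.card X).factorization q + 1) ∣ Nat.card X := by
      rw [pow_succ, ← W.card_mul_index]
      refine Nat.mul_dvd_mul ?_ h2
      rw [W.card_mul_index]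
      exact hcard ▸ pow_dvd_pm hqs _
    exact Nat.pow_succ_factorization_not_dvd Nat.card_pos.ne' hq h3
  have hbij : Function.Surjective (fun w : ↥W => φ w) := by
    intro v
    obtain ⟨w, hw⟩ := (powCoprime hcop).surjective v
    refine ⟨w, Subtype.ext ?_⟩
    show (φ (w : X) : X) = (v : X)
    rw [hφW _ w.2, ← hw]
    rfl
  have hPK : (P : Subgroup X) ≤ φ.ker := fun x hx => by
    refine MonoidHom.mem_ker.mpr (((isPiElem_singleton_of_pGroup P.isPGroup' hx).map φ).eq_one ?_)
    intro q hq hd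
    have h1 : q ∈ s := by
      refine isPiElem_of_card_pm hs' hcard (φ x).2 q hq ?_
      rwa [Subgroup.orderOf_coe]
    exact (hs q h1).2.ne'
  set N := Subgroup.normalizer ((P : Subgroup X) : Set X) with hNdef
  have htop : N ⊔ φ.ker = ⊤ := Sylow.normalizer_sup_eq_top' P hPK
  set ψ : ↥N →* ↥W := φ.comp N.subtype with hψ
  have hψsurj : Function.Surjective ψ := by
    intro v
    obtain ⟨w, hw⟩ := hbij v
    obtain ⟨n, hn, k, hk, e⟩ :=
      Subgroup.mem_sup_of_normal_right.mp (htop ▸ Subgroup.mem_top (w : X))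
    refine ⟨⟨n, hn⟩, ?_⟩
    show φ n = v
    rw [← hw]
    show φ n = φ (w : X)
    rw [← e, map_mul, MonoidHom.mem_ker.mp hk, mul_one]
  have hidx : ψ.ker.index = Nat.card W := by
    rw [Subgroup.index_ker, MonoidHom.range_eq_top.mpr hψsurj, Subgroup.card_top]
  have hcop' : (Nat.card ψ.ker).Coprime ψ.ker.index := by
    rw [hidx]
    refine Nat.coprime_of_dvd fun q hq h1 h2 => ?_
    have hqs := prime_dvd_pm hs' hq (hcard ▸ h2)
    have h3 : Nat.card ψ.ker * Nat.card W ∣ Nat.card X := by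
      rw [← hidx, Subgroup.card_mul_index]
      exact Subgroup.card_subgroup_dvd_card N
    have h4 : q ^ ((Nat.card X).factorization q + 1) ∣ Nat.card X := by
      rw [pow_succ']
      exact (Nat.mul_dvd_mul h1 (hcard ▸ pow_dvd_pm hqs _)).trans h3
    exact Nat.pow_succ_factorization_not_dvd Nat.card_pos.ne' hq h4
  obtain ⟨C, hC⟩ := Subgroup.exists_right_complement'_of_coprime hcop'
  have hCcard : Nat.card C = Nat.card W := by rw [← hC.symm.index_eq_card]; exact hidx
  have hCab : ∀ a ∈ C.map N.subtype, ∀ b ∈ C.map N.subtype, a * b = b * a := by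
    rintro _ ⟨a, ha, rfl⟩ _ ⟨b, hb, rfl⟩
    have h1 : (b * a)⁻¹ * (a * b) ∈ ψ.ker := by
      rw [MonoidHom.mem_ker, map_mul, map_inv, map_mul, map_mul, mul_comm (ψ b) (ψ a),
        inv_mul_cancel]
    have h2 : (b * a)⁻¹ * (a * b) ∈ C := C.mul_mem (C.inv_mem (C.mul_mem hb ha)) (C.mul_mem ha hb)
    exact congrArg N.subtype (inv_mul_eq_one.mp (Subgroup.disjoint_def.mp hC.disjoint h1 h2)).symm
  have hC' : C.map N.subtype ≤ Subgroup.centralizer ((P : Subgroup X) : Set X) := by
    rintro _ ⟨c, hc', rfl⟩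
    haveI : IsCyclic ↥(P : Subgroup X) := isCyclic_of_prime_card hP
    set θ := (P : Subgroup X).normalizerMonoidHom with hθ
    have h1 : orderOf (θ c) ∣ p - 1 := by
      have h := IsCyclic.card_mulAut ↥(P : Subgroup X)
      rw [hP, Nat.totient_prime hp.out] at h
      rw [← h]
      exact orderOf_dvd_natCard _
    have h2 : θ c = 1 := by
      rw [← orderOf_eq_one_iff]
      by_contra hne
      obtain ⟨q, hq, hd⟩ := Nat.exists_prime_and_dvd hne
      have hqs : q ∈ s := by
        refine prime_dvd_pm hs' (n := Nat.card X) hq ?_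
        rw [← hcard, ← hCcard]
        refine (hd.trans (orderOf_map_dvd θ c)).trans ?_
        have := orderOf_dvd_natCard (⟨c, hc'⟩ : C)
        rwa [Subgroup.orderOf_mk] at this
      have := Nat.le_of_dvd (by have := hp.out.two_le; omega) (hd.trans h1)
      have := (hs q hqs).2
      omega
    have h3 : c ∈ θ.ker := h2
    rw [hθ, Subgroup.normalizerMonoidHom_ker] at h3
    exact h3
  obtain ⟨g, -, hmap⟩ := exists_conj_map_eq hs' hW (H := ⊤) le_top
    (A := C.map N.subtype) hCab le_top hcard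
    (by rw [Subgroup.card_map_of_injective N.subtype_injective, hCcard, hcard])
  obtain ⟨z, hz, hz1⟩ : ∃ z, z ∈ (P : Subgroup X) ∧ z ≠ 1 := by
    by_contra! h
    exact hp.out.ne_one (hP.symm.trans (by rw [(Subgroup.eq_bot_iff_forall _).mpr h]; simp))
  refine hz1 ?_
  have := hN (g * z * g⁻¹) ((isPiElem_conj_iff g z).mpr
    (isPiElem_singleton_of_pGroup P.isPGroup' hz)) fun w hw => by
      rw [← hmap] at hw
      obtain ⟨a, ha, rfl⟩ := hw
      have h := Subgroup.mem_centralizer_iff.mp (hC' ha) z hz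
      have e : g * z * g⁻¹ * (g * a * g⁻¹) * (g * z * g⁻¹)⁻¹ = g * a * g⁻¹ := by
        calc g * z * g⁻¹ * (g * a * g⁻¹) * (g * z * g⁻¹)⁻¹ = g * (z * a * z⁻¹) * g⁻¹ := by group
          _ = g * a * g⁻¹ := by rw [h, mul_inv_cancel_right]
      show g * z * g⁻¹ * (g * a * g⁻¹) * (g * z * g⁻¹)⁻¹ ∈ W
      rw [e, ← hmap]
      exact Subgroup.mem_map_of_mem _ ha
  exact conj_eq_one_iff.mp this

end Cfsg.Agent.PiMany
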